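import Cfsg.Agent.H94.Mult.TwoPartSound

/-!
Stem extensions of odd prime order.
-/

set_option autoImplicit false

namespace Cfsg.Agent.H94.Mult

open Cfsg Cfsg.Agent.Golay Cfsg.Agent.H94.M24
open scoped commutatorElement

attribute [local irreducible] tblMul validT idTblVal inStab commB tblEq

variable {Γ : Type} [Group Γ] [Finite Γ]

/-- Cyclic Sylow subgroups. -/
theorem noStem_cyclic {G : Type} [Group G] [Finite G] (σ : Γ →* G) {l : ℕ} (hl : l.Prime)
    (h : ¬ l ^ 2 ∣ Nat.card G) (hσ : IsStemExtension σ) : Nat.card σ.ker ≠ l := by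
  intro hker
  haveI := Fact.mk hl
  obtain ⟨P⟩ := (inferInstance : Nonempty (Sylow l G))
  obtain ⟨k, hk⟩ := P.isPGroup'.exists_card_eq
  have hk1 : k ≤ 1 := by
    by_contra hlt
    exact h ((pow_dvd_pow l (by omega : 2 ≤ k)).trans (hk ▸ Subgroup.card_subgroup_dvd_card _))
  haveI hcyc : IsCyclic ↥(P : Subgroup G) := by
    interval_cases k
    · haveI : Subsingleton ↥(P : Subgroup G) :=
        (Nat.card_eq_one_iff_unique.1 (by simpa using hk)).1
      exact isCyclic_of_subsingleton
    · exact isCyclic_of_prime_card (p := l) (by simpa using hk)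
  have hidx : Nat.Coprime l (P : Subgroup G).index :=
    hl.coprime_iff_not_dvd.2 P.not_dvd_index
  obtain ⟨g, hg⟩ := exists_prime_orderOf_dvd_card' l (G := σ.ker) (by rw [hker])
  have := Cfsg.Agent.H50.eq_one_of_rigidAt hσ _ hidx (Cfsg.Agent.H50.rigidAt_of_isCyclic l _) g g.2
    (by rw [← SubgroupClass.coe_pow, ← hg, pow_orderOf_eq_one, Subgroup.coe_one])
  rw [Subtype.ext (a1 := g) (a2 := 1) this, orderOf_one] at hg
  exact hl.one_lt.ne hg

/-- Data for a Sylow 3-subgroup generated by two elements with central commutator `w`. -/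
structure ThreeCert where
  /-- The fixed points of the group. -/
  F : ℕ
  /-- First generator. -/
  x : ℕ
  /-- Second generator. -/
  y : ℕ
  /-- Their commutator. -/
  w : ℕ
  /-- Factors of `x` centralising `w`. -/
  fx : List (ℕ × ℕ)
  /-- Factors of `y` centralising `w`. -/
  fy : List (ℕ × ℕ)
  /-- Factors of `y` centralising `x`, if they commute. -/
  fxy : List (ℕ × ℕ)

namespace ThreeCert

variable (C : ThreeCert)

/-- The elements of the subgroup. -/
def els : List ℕ :=
  [0, 1, 2].flatMap fun i => [0, 1, 2].flatMap fun j =>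
    (if tblEq C.w idTblVal then [0] else [0, 1, 2]).map fun k =>
      tblMul (tblMul (powT i C.x) (powT j C.y)) (powT k C.w)

/-- Factors of `v` of order prime to three centralising `u`. -/
def factOK (u v : ℕ) (fs : List (ℕ × ℕ)) : Bool :=
  (fs.all fun a => inStab [] C.F a.1 && commB a.1 u && !(a.2 % 3 == 0) &&
    tblEq (powT a.2 a.1) idTblVal) &&
  tblEq (fs.foldl (fun acc a => tblMul acc a.1) idTblVal) v

/-- All checks. -/
def check : Bool :=
  inStab [] C.F C.x && inStab [] C.F C.y && inStab [] C.F C.w &&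
  tblEq (tblMul C.x C.y) (tblMul C.w (tblMul C.y C.x)) &&
  tblEq (powT 3 C.x) idTblVal && tblEq (powT 3 C.w) idTblVal &&
  decide C.els.Nodup && (C.els.all fun t => canonT t) &&
  (C.els.any fun t => tblEq t idTblVal) &&
  (C.els.all fun t => C.els.contains (tblMul t C.x) && C.els.contains (tblMul t C.y)) &&
  (if tblEq C.w idTblVal then C.factOK C.x C.y C.fxy
   else C.factOK C.w C.x C.fx && C.factOK C.w C.y C.fy)

theorem noStem_three (σ : Γ →* ↥(stabGrp [] C.F)) (hc : C.check = true) {r : ℕ}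
    (hr : Nat.Coprime 3 r) (hK : Nat.card ↥(stabGrp [] C.F) = C.els.length * r)
    (hσ : IsStemExtension σ) : Nat.card σ.ker ≠ 3 := by
  intro h3
  set ρ : Γ →* Equiv.Perm GolayPt := (stabGrp [] C.F).subtype.comp σ with hρdef
  have hker : ∀ x, ρ x = 1 ↔ x ∈ σ.ker := fun x => by
    rw [MonoidHom.mem_ker]
    exact ⟨fun h => Subtype.ext h, fun h => by simp [hρdef, h]⟩
  have hcen : ∀ x, ρ x = 1 → ∀ y : Γ, y * x = x * y := fun x hx y =>
    Subgroup.mem_center_iff.1 (hσ.2.1 ((hker x).1 hx)) y
  have hsurj : ∀ g ∈ stabGrp [] C.F, ∃ x, ρ x = g := fun g hg => by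
    obtain ⟨x, hx⟩ := hσ.1 ⟨g, hg⟩
    exact ⟨x, by simp [hρdef, hx]⟩
  have hcube : ∀ x, ρ x = 1 → x ^ 3 = 1 := by
    intro x hx
    have := pow_card_eq_one' (x := (⟨x, (hker x).1 hx⟩ : σ.ker))
    rw [h3] at this
    simpa using congrArg Subtype.val this
  simp only [check, Bool.and_eq_true, decide_eq_true_eq, List.all_eq_true, List.any_eq_true,
    List.contains_iff_mem] at hc
  obtain ⟨⟨⟨⟨⟨⟨⟨⟨⟨⟨hx, hy⟩, hw⟩, hxy⟩, hx3⟩, hw3⟩, hnd⟩, hcan⟩, hone⟩, hclosed⟩, hfac⟩ := hc
  have hval : ∀ t, inStab [] C.F t = true → validT t = true := fun t ht => by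
    unfold inStab at ht
    simp only [Bool.and_eq_true] at ht
    exact validT_of_inM24 ht.1.1
  have vx := hval _ hx
  have vy := hval _ hy
  have vw := hval _ hw
  rw [tblEq_iff (tblMul_spec vx vy).1 (tblMul_spec vw (tblMul_spec vy vx).1).1,
    (tblMul_spec vx vy).2, (tblMul_spec vw (tblMul_spec vy vx).1).2, (tblMul_spec vy vx).2] at hxy
  rw [tblEq_iff (powT_spec vx 3).1 idTblVal_spec.1, (powT_spec vx 3).2, idTblVal_spec.2] at hx3
  rw [tblEq_iff (powT_spec vw 3).1 idTblVal_spec.1, (powT_spec vw 3).2, idTblVal_spec.2] at hw3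
  -- lifts of commuting elements of coprime order commute
  have hlift : ∀ U, ∀ fs : List (ℕ × ℕ), ∀ u v, validT u = true → validT v = true →
      ρ U = mkPerm u → C.factOK u v fs = true → ∀ V, ρ V = mkPerm v → Commute V U := by
    intro U fs u v hu hv hU hf V hV
    simp only [factOK, Bool.and_eq_true, List.all_eq_true] at hf
    obtain ⟨hall, hprod⟩ := hf
    have key : ∀ l : List (ℕ × ℕ), (∀ a ∈ l, a ∈ fs) →
        ∀ acc X, validT acc = true → ρ X = mkPerm acc → Commute X U →
        ∃ Y, ρ Y = mkPerm (l.foldl (fun acc a => tblMul acc a.1) acc) ∧ Commute Y U ∧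
          validT (l.foldl (fun acc a => tblMul acc a.1) acc) = true := by
      intro l
      induction l with
      | nil => intro _ acc X hva hX hXu; exact ⟨X, hX, hXu, hva⟩
      | cons a t ih =>
        intro hsub acc X hacc hX hXu
        obtain ⟨⟨⟨hst, hcb⟩, hord⟩, hpow⟩ := hall a (hsub a (by simp))
        have hva := hval _ hst
        obtain ⟨A, hA⟩ := hsurj _ (mem_stabGrp_of_inStab hst)
        rw [commB_iff hva hu] at hcb
        rw [tblEq_iff (powT_spec hva a.2).1 idTblVal_spec.1, (powT_spec hva a.2).2,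
          idTblVal_spec.2] at hpow
        set c := U⁻¹ * (A * U * A⁻¹) with hc_def
        have hc1 : ρ c = 1 := by
          simp only [hc_def, map_mul, map_inv, hU, hA, hcb, mul_inv_cancel_right, inv_mul_cancel]
        have hconjA : A * U * A⁻¹ = U * c := (mul_inv_cancel_left _ _).symm
        have hk : ∀ k : ℕ, A ^ k * U * (A ^ k)⁻¹ = U * c ^ k := by
          intro k
          induction k with
          | zero => simp
          | succ k ihk =>
            calc A ^ (k + 1) * U * (A ^ (k + 1))⁻¹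
                = A * (A ^ k * U * (A ^ k)⁻¹) * A⁻¹ := by rw [pow_succ']; group
              _ = (A * U * A⁻¹) * (A * c ^ k * A⁻¹) := by rw [ihk]; group
              _ = U * c ^ (k + 1) := by
                rw [hconjA, hcen (c ^ k) (by rw [map_pow, hc1, one_pow]) A, mul_inv_cancel_right,
                  mul_assoc, ← pow_succ']
        have hkey := hk a.2
        have hAk : ρ (A ^ a.2) = 1 := by rw [map_pow, hA, hpow]
        rw [← hcen _ hAk U, mul_inv_cancel_right] at hkey
        have hck : c ^ a.2 = 1 := left_eq_mul.1 hkey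
        have hc0 : c = 1 := by
          have h33 := hcube c hc1
          have hd : a.2 % 3 ≠ 0 := by simpa using hord
          have hmod : c ^ (a.2 % 3) = 1 := by
            rw [← hck]
            conv_rhs => rw [← Nat.div_add_mod a.2 3, pow_add, pow_mul, h33, one_pow, one_mul]
          rcases (by omega : a.2 % 3 = 1 ∨ a.2 % 3 = 2) with e | e
          · rwa [e, pow_one] at hmod
          · rw [e] at hmod
            rwa [show c ^ 3 = c ^ 2 * c from pow_succ c 2, hmod, one_mul] at h33
        have hAu : Commute A U := by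
          rw [hc0, mul_one, mul_inv_eq_iff_eq_mul] at hconjA
          exact hconjA
        obtain ⟨h1, h2⟩ := tblMul_spec hacc hva
        rw [List.foldl_cons]
        exact ih (fun b hb => hsub b (List.mem_cons_of_mem _ hb)) (tblMul acc a.1) (X * A) h1
          (by rw [map_mul, hX, hA, h2]) (hXu.mul_left hAu)
    obtain ⟨Y, hY, hYu, hYv⟩ := key fs (fun a ha => ha) idTblVal 1 idTblVal_spec.1
      (by rw [map_one, idTblVal_spec.2]) (Commute.one_left _)
    rw [tblEq_iff hYv hv, ← hY, ← hV] at hprod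
    have hz : ρ (Y⁻¹ * V) = 1 := by rw [map_mul, map_inv, hprod, inv_mul_cancel]
    have := hYu.mul_left (show Commute (Y⁻¹ * V) U from (hcen _ hz U).symm)
    rwa [mul_inv_cancel_left] at this
  obtain ⟨X, hX⟩ := hsurj _ (mem_stabGrp_of_inStab hx)
  obtain ⟨Y, hY⟩ := hsurj _ (mem_stabGrp_of_inStab hy)
  set W := ⁅X, Y⁆ with hWdef
  have hW : ρ W = mkPerm C.w := by
    rw [hWdef, map_commutatorElement, hX, hY, commutatorElement_def, hxy]
    group
  have hWc : W = 1 ∨ (Commute X W ∧ Commute Y W ∧ mkPerm C.w ≠ 1) := by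
    by_cases he : tblEq C.w idTblVal = true
    · rw [if_pos he] at hfac
      exact .inl (commutatorElement_eq_one_iff_commute.2
        (hlift X _ _ _ vx vy hX hfac Y hY).symm)
    · rw [if_neg he, Bool.and_eq_true] at hfac
      refine .inr ⟨hlift W _ _ _ vw vx hW hfac.1 X hX, hlift W _ _ _ vw vy hW hfac.2 Y hY,
        fun e => he ?_⟩
      rw [tblEq_iff vw idTblVal_spec.1, e, idTblVal_spec.2]
  -- the subgroup
  set Q : Subgroup (Equiv.Perm GolayPt) := Subgroup.closure {mkPerm C.x, mkPerm C.y} with hQ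
  have hxQ : mkPerm C.x ∈ Q := Subgroup.subset_closure (by simp)
  have hyQ : mkPerm C.y ∈ Q := Subgroup.subset_closure (by simp)
  have hwQ : mkPerm C.w ∈ Q := by
    have : mkPerm C.w = ⁅mkPerm C.x, mkPerm C.y⁆ := by
      rw [commutatorElement_def, hxy]; group
    rw [this, commutatorElement_def]
    exact mul_mem (mul_mem (mul_mem hxQ hyQ) (inv_mem hxQ)) (inv_mem hyQ)
  have helQ : ∀ t ∈ C.els, validT t = true ∧ mkPerm t ∈ Q := by
    intro t ht
    simp only [els, List.mem_flatMap, List.mem_map] at ht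
    obtain ⟨i, -, j, -, k, -, rfl⟩ := ht
    obtain ⟨v1, e1⟩ := powT_spec vx i
    obtain ⟨v2, e2⟩ := powT_spec vy j
    obtain ⟨v3, e3⟩ := powT_spec vw k
    obtain ⟨v12, e12⟩ := tblMul_spec v1 v2
    refine ⟨(tblMul_spec v12 v3).1, ?_⟩
    rw [(tblMul_spec v12 v3).2, e12, e1, e2, e3]
    exact mul_mem (mul_mem (pow_mem hxQ i) (pow_mem hyQ j)) (pow_mem hwQ k)
  have hQels : ∀ g ∈ Q, ∃ t ∈ C.els, mkPerm t = g := by
    intro g hg
    have hg' : g ∈ Submonoid.closure {mkPerm C.x, mkPerm C.y} := by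
      rw [← Subgroup.closure_toSubmonoid_of_finite]; exact hg
    clear hg
    induction hg' using Submonoid.closure_induction_right with
    | one =>
      obtain ⟨t, ht, he⟩ := hone
      exact ⟨t, ht, by
        rw [(tblEq_iff (helQ t ht).1 idTblVal_spec.1).1 he, idTblVal_spec.2]⟩
    | mul_right g _ a ha ih =>
      obtain ⟨t, ht, rfl⟩ := ih
      have hv := (helQ t ht).1
      rcases ha with rfl | rfl
      · exact ⟨_, (hclosed t ht).1, (tblMul_spec hv vx).2⟩
      · exact ⟨_, (hclosed t ht).2, (tblMul_spec hv vy).2⟩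
  have hcardQ : Nat.card Q = C.els.length :=
    natCard_eq_length (fun g => g ∈ Q) C.els hnd (fun t ht => ⟨hcan t ht, (helQ t ht).2⟩) hQels
  have hQK : Q ≤ stabGrp [] C.F := by
    rw [hQ, Subgroup.closure_le]
    rintro _ (rfl | rfl)
    exacts [mem_stabGrp_of_inStab hx, mem_stabGrp_of_inStab hy]
  have hidx : Nat.Coprime 3 (Q.subgroupOf (stabGrp [] C.F)).index := by
    have h := Subgroup.card_mul_index (Q.subgroupOf (stabGrp [] C.F))
    rw [Nat.card_congr (Subgroup.subgroupOfEquivOfLe hQK).toEquiv, hcardQ, hK,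
      Nat.mul_left_cancel_iff (hcardQ ▸ Nat.card_pos)] at h
    rw [h]
    exact hr
  obtain ⟨z, hz, hz1⟩ : ∃ z ∈ σ.ker, z ≠ 1 := by
    by_contra! h
    rw [(Subgroup.eq_bot_iff_forall _).2 h, Subgroup.card_bot] at h3
    omega
  obtain ⟨hzQ, hzc⟩ := Cfsg.Agent.H50.mem_commutator_comap hσ _ hidx z hz
    (hcube z ((hker z).2 hz))
  set P0 := (Q.subgroupOf (stabGrp [] C.F)).comap σ with hP0
  have hzP : z ∈ ⁅P0, P0⁆ := by
    rw [← Subgroup.map_subtype_commutator]
    exact ⟨_, hzc, rfl⟩
  set s : Set Γ := {X, Y} ∪ {a | ρ a = 1} with hs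
  have hgenP0 : Subgroup.closure s = P0 := by
    refine le_antisymm ?_ fun a ha => ?_
    · rw [Subgroup.closure_le]
      rintro a ((rfl | rfl) | ha)
      · show ρ a ∈ Q; rw [hX]; exact hxQ
      · show ρ a ∈ Q; rw [hY]; exact hyQ
      · show ρ a ∈ Q; rw [show ρ a = 1 from ha]; exact one_mem _
    · have hle : Q ≤ (Subgroup.closure s).map ρ := by
        rw [hQ, Subgroup.closure_le]
        rintro _ (rfl | rfl)
        exacts [⟨X, Subgroup.subset_closure (by simp [hs]), hX⟩,
          ⟨Y, Subgroup.subset_closure (by simp [hs]), hY⟩]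
      obtain ⟨b, hb, hbe⟩ := hle (show ρ a ∈ Q from ha)
      have : b⁻¹ * a ∈ Subgroup.closure s :=
        Subgroup.subset_closure (.inr (by
          show ρ (b⁻¹ * a) = 1
          rw [map_mul, map_inv, hbe, inv_mul_cancel]))
      simpa using mul_mem hb this
  have hXW : Commute X W := by
    rcases hWc with h | h
    · rw [h]; exact Commute.one_right X
    · exact h.1
  have hYW : Commute Y W := by
    rcases hWc with h | h
    · rw [h]; exact Commute.one_right Y
    · exact h.2.1
  have hPn : P0 ≤ Subgroup.normalizer (Subgroup.zpowers W : Set Γ) := by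
    rw [← hgenP0, Subgroup.closure_le]
    intro a ha
    have hca : Commute a W := by
      rcases ha with (rfl | rfl) | ha
      exacts [hXW, hYW, (hcen a ha W).symm]
    refine Subgroup.mem_normalizer_iff.2 fun b => ?_
    constructor
    · intro hb
      obtain ⟨n, rfl⟩ := Subgroup.mem_zpowers_iff.1 hb
      rw [(hca.zpow_right n).eq, mul_inv_cancel_right]
      exact hb
    · intro hb
      obtain ⟨n, hn⟩ := Subgroup.mem_zpowers_iff.1 hb
      have : b = W ^ n := by
        calc b = a⁻¹ * (a * b * a⁻¹) * a := by group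
          _ = a⁻¹ * W ^ n * a := by rw [hn]
          _ = W ^ n := by rw [mul_assoc, ← (hca.zpow_right n).eq, inv_mul_cancel_left]
      rw [this]
      exact Subgroup.zpow_mem_zpowers W n
  have hgens : ∀ a ∈ s, ∀ b ∈ s, ⁅a, b⁆ ∈ Subgroup.zpowers W := by
    have hzero : ∀ a b : Γ, ρ a = 1 → ⁅a, b⁆ ∈ Subgroup.zpowers W := fun a b h => by
      rw [commutatorElement_eq_one_iff_mul_comm.2 (hcen a h b).symm]; exact one_mem _
    rintro a ((rfl | rfl) | ha) b hb
    · rcases hb with (rfl | rfl) | hb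
      · rw [commutatorElement_eq_one_iff_mul_comm.2 rfl]; exact one_mem _
      · exact Subgroup.mem_zpowers W
      · rw [← commutatorElement_inv]; exact inv_mem (hzero _ _ hb)
    · rcases hb with (rfl | rfl) | hb
      · rw [← commutatorElement_inv]; exact inv_mem (Subgroup.mem_zpowers W)
      · rw [commutatorElement_eq_one_iff_mul_comm.2 rfl]; exact one_mem _
      · rw [← commutatorElement_inv]; exact inv_mem (hzero _ _ hb)
    · exact hzero _ _ ha
  have hcomW : ⁅P0, P0⁆ ≤ Subgroup.zpowers W := by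
    rw [Subgroup.commutator_le]
    intro a ha b hb
    rw [← commutatorElement_inv]
    refine inv_mem (comm_mem_of_closure hPn hgenP0 (g := a) (fun c hc => ?_) b hb)
    rw [← commutatorElement_inv]
    exact inv_mem (comm_mem_of_closure hPn hgenP0 (g := c) (fun d hd => hgens d hd c hc) a ha)
  obtain ⟨n, hn⟩ := Subgroup.mem_zpowers_iff.1 (hcomW hzP)
  rcases hWc with h | ⟨-, -, hne⟩
  · exact hz1 (by rw [← hn, h, one_zpow])
  -- W has order dividing three
  have hX3 : ρ (X ^ 3) = 1 := by rw [map_pow, hX, hx3]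
  have hW3 : W ^ 3 = 1 := by
    have e : Y * X * Y⁻¹ = W⁻¹ * X := by
      rw [hWdef, commutatorElement_def]; group
    have e3 : (W⁻¹ * X) ^ 3 = X ^ 3 := by
      rw [← e, conj_pow, hcen _ hX3 Y, mul_inv_cancel_right]
    rw [(hXW.inv_right.symm).mul_pow, mul_eq_right, inv_pow, inv_eq_one] at e3
    exact e3
  haveI := Fact.mk (show Nat.Prime 3 by norm_num)
  have ho : orderOf (mkPerm C.w) = 3 := orderOf_eq_prime hw3 hne
  have hzn : mkPerm C.w ^ n = 1 := by rw [← hW, ← map_zpow, hn]; exact (hker z).2 hz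
  have h3n : (3 : ℤ) ∣ n := by
    have := orderOf_dvd_iff_zpow_eq_one.2 hzn
    rwa [ho] at this
  obtain ⟨m, rfl⟩ := h3n
  exact hz1 (by rw [← hn, zpow_mul, show W ^ (3 : ℤ) = 1 from by exact_mod_cast hW3, one_zpow])

end ThreeCert

end Cfsg.Agent.H94.Mult
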