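import Cfsg.Agent.H94.Mult.ThreePart

/-!
Generated data for the Sylow 3-subgroups.
-/

set_option autoImplicit false

namespace Cfsg.Agent.H94.Mult

/-- The certificate for the prime three. -/
def threeM24 : ThreeCert where
  F := 0
  x := 977995611202395984975141843696586784
  y := 798375583923352203413182428008302992
  w := 28930981254977696643940424661536481
  fx := [(968708902336673183175954409307867168, 2), (978076899444677511050001024522036256, 5)]
  fy := [(969190011245453025641947595940532256, 5), (271342475752493392064850959855695506, 4)]
  fxy := []

/-- The certificate for the prime three. -/
def threeM23 : ThreeCert where
  F := 8388608
  x := 979625548642197606253903987540592007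
  y := 979605662450511938334560623817013601
  w := 984818244535754528103549039458486304
  fx := []
  fy := []
  fxy := [(957519381182813566586639774044570304, 2), (971776635219068148349173877597446710, 5)]

end Cfsg.Agent.H94.Mult
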