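import Cfsg.Agent.H94.Mult.Collector

/-!
Normal forms in the later generators form a normal subgroup.
-/

set_option autoImplicit false

namespace Cfsg.Agent.H94.Mult

/-- The bits of a mask all lie at or above a bound. -/
def Above (d w : ℕ) : Prop := ∀ k < d, w.testBit k = false

lemma above_zero (d : ℕ) : Above d 0 := fun k _ => Nat.zero_testBit k

lemma above_shift (d m : ℕ) : Above d (m <<< d) := fun k hk => by
  rw [Nat.testBit_shiftLeft]; simp [Nat.not_le.2 hk]

lemma eq_shift_of_above {d w : ℕ} (h : Above d w) : w = (w >>> d) <<< d := by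
  apply Nat.eq_of_testBit_eq
  intro k
  rw [Nat.testBit_shiftLeft, Nat.testBit_shiftRight]
  by_cases hk : d ≤ k
  · rw [decide_eq_true hk, Bool.true_and, Nat.add_sub_cancel' hk]
  · rw [h k (Nat.lt_of_not_le hk)]; simp [hk]

namespace Model

variable {R : Rules} {E : Type*} [Group E] (M : Model R E)

lemma bitsOf_mem {n w k : ℕ} : k ∈ bitsOf n w ↔ k < n ∧ w.testBit k = true := by
  simp [bitsOf]

lemma nf_two_pow {i : ℕ} (hi : i < R.n) : M.nf (2 ^ i) = M.G i := by
  rw [M.nf_split hi (by simp) (fun k hk _ => by rw [Nat.testBit_two_pow]; simp [hk.ne]),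
    Nat.xor_self, M.nf_zero, one_mul]

lemma nf_low_high (d m : ℕ) (hd : d ≤ R.n) :
    M.nf m = M.nf (m % 2 ^ d) * M.nf ((m >>> d) <<< d) := by
  simp only [nf, ← List.prod_append, ← List.map_append, bitsOf]
  congr 2
  obtain ⟨e, he⟩ := Nat.exists_eq_add_of_le hd
  rw [he, List.range_add, List.filter_append, List.filter_append, List.filter_append]
  have h1 : (List.range d).filter (fun k => ((m >>> d) <<< d).testBit k) = [] := by
    rw [List.filter_eq_nil_iff]
    intro k hk
    rw [above_shift d (m >>> d) k (List.mem_range.1 hk)]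
    simp
  have h2 : ((List.range e).map (d + ·)).filter (fun k => (m % 2 ^ d).testBit k) = [] := by
    rw [List.filter_eq_nil_iff]
    intro k hk
    obtain ⟨j, -, rfl⟩ := List.mem_map.1 hk
    rw [Nat.testBit_mod_two_pow]
    simp
  rw [h1, h2, List.append_nil, List.nil_append]
  congr 1
  · refine List.filter_congr fun k hk => ?_
    rw [Nat.testBit_mod_two_pow, decide_eq_true (List.mem_range.1 hk), Bool.true_and]
  · refine List.filter_congr fun k hk => ?_
    obtain ⟨j, -, rfl⟩ := List.mem_map.1 hk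
    rw [Nat.testBit_shiftLeft, decide_eq_true (Nat.le_add_right d j), Bool.true_and,
      Nat.testBit_shiftRight, Nat.add_sub_cancel_left]

/-- The subgroup of the later generators. -/
def derSub (d : ℕ) : Subgroup E := Subgroup.closure {x | ∃ k, d ≤ k ∧ k < R.n ∧ M.G k = x}

lemma G_mem_derSub {d k : ℕ} (h1 : d ≤ k) (h2 : k < R.n) : M.G k ∈ M.derSub d :=
  Subgroup.subset_closure ⟨k, h1, h2, rfl⟩

lemma nf_mem_derSub {d w : ℕ} (h : Above d w) : M.nf w ∈ M.derSub d := by
  refine list_prod_mem fun x hx => ?_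
  obtain ⟨k, hk, rfl⟩ := List.mem_map.1 hx
  rw [bitsOf_mem] at hk
  refine M.G_mem_derSub ?_ hk.1
  by_contra hlt
  rw [h k (Nat.lt_of_not_le hlt)] at hk
  simp at hk

/-- Normal forms in the later generators exhaust their subgroup. -/
theorem derSub_normalForm [Finite E] {d : ℕ}
    (hclosed : ∀ m i, Above d m → m < 2 ^ R.n → d ≤ i → i < R.n →
      ∃ r, Above d r ∧ r < 2 ^ R.n ∧ M.nf m * M.G i = M.nf r) :
    ∀ x ∈ M.derSub d, ∃ m, Above d m ∧ m < 2 ^ R.n ∧ M.nf m = x := by
  intro x hx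
  have hx' : x ∈ Submonoid.closure {x | ∃ k, d ≤ k ∧ k < R.n ∧ M.G k = x} := by
    rw [← Subgroup.closure_toSubmonoid_of_finite]; exact hx
  induction hx' using Submonoid.closure_induction_right with
  | one => exact ⟨0, above_zero d, Nat.two_pow_pos _, M.nf_zero⟩
  | mul_right y hy z hz ih =>
    obtain ⟨k, hk1, hk2, rfl⟩ := hz
    obtain ⟨m, hm1, hm2, rfl⟩ := ih (by
      show y ∈ (Subgroup.closure {x | ∃ k, d ≤ k ∧ k < R.n ∧ M.G k = x}).toSubmonoid
      rw [Subgroup.closure_toSubmonoid_of_finite]; exact hy)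
    obtain ⟨r, hr1, hr2, he⟩ := hclosed m k hm1 hm2 hk1 hk2
    exact ⟨r, hr1, hr2, he.symm⟩

/-- The subgroup of the later generators is normalised by all generators. -/
theorem G_mem_normalizer [Finite E] {d i : ℕ} (hi : i < R.n)
    (hcm : ∀ a b, a < b → b < R.n → d ≤ b →
      Above d (R.cmRule b a).1 ∧ M.V (R.cmRule b a).2 = 1) :
    M.G i ∈ Subgroup.normalizer (M.derSub d : Set E) := by
  by_cases hdi : d ≤ i
  · exact Subgroup.le_normalizer (M.G_mem_derSub hdi hi)
  have hle : (M.derSub d).map (MulAut.conj (M.G i)⁻¹).toMonoidHom ≤ M.derSub d := by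
    rw [derSub, MonoidHom.map_closure, Subgroup.closure_le]
    rintro _ ⟨_, ⟨k, hk1, hk2, rfl⟩, rfl⟩
    show (M.G i)⁻¹ * M.G k * (M.G i)⁻¹⁻¹ ∈ M.derSub d
    obtain ⟨hw, hv⟩ := hcm i k (by omega) hk2 hk1
    rw [inv_inv, mul_assoc, M.cm_rule i k (by omega) hk2, hv, mul_one, mul_assoc (M.G i),
      inv_mul_cancel_left]
    exact mul_mem (M.G_mem_derSub hk1 hk2) (M.nf_mem_derSub hw)
  have heq := Subgroup.eq_of_le_of_card_ge hle
    (Nat.card_congr ((M.derSub d).equivMapOfInjective _
      (MulAut.conj (M.G i)⁻¹).injective).toEquiv).le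
  rw [← inv_mem_iff, Subgroup.mem_normalizer_iff]
  intro x
  constructor
  · intro hx
    rw [← heq]
    exact ⟨x, hx, rfl⟩
  · intro hx
    rw [← heq] at hx
    obtain ⟨y, hy, hye⟩ := hx
    rwa [← (MulAut.conj (M.G i)⁻¹).injective hye]

end Model

end Cfsg.Agent.H94.Mult
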