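import Cfsg.Agent.H94.Mult.TwoPart
import Cfsg.Agent.H94.Mult.Derived

/-!
Soundness of the certificate: no stem extension by a kernel of order two.
-/

set_option autoImplicit false

namespace Cfsg.Agent.H94.Mult

open Cfsg Cfsg.Agent.Golay Cfsg.Agent.H94.M24
open scoped commutatorElement


attribute [local irreducible] tblMul validT idTblVal inStab commB conjB tblEq

lemma comm_mem_of_closure {X : Type*} [Group X] {Y P : Subgroup X}
    (hP : P ≤ Subgroup.normalizer (Y : Set X)) {s : Set X} (hs : Subgroup.closure s = P) {g : X}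
    (h : ∀ a ∈ s, ⁅a, g⁆ ∈ Y) : ∀ x ∈ P, ⁅x, g⁆ ∈ Y := by
  intro x hx
  have hx' : x ∈ Subgroup.closure s := hs.symm ▸ hx
  clear hx
  induction hx' using Subgroup.closure_induction with
  | mem a ha => exact h a ha
  | one => rw [commutatorElement_one_left]; exact one_mem _
  | mul a b ha hb iha ihb =>
    rw [show ⁅a * b, g⁆ = a * ⁅b, g⁆ * a⁻¹ * ⁅a, g⁆ by
      simp only [commutatorElement_def]; group]
    exact mul_mem ((Subgroup.mem_normalizer_iff.1 (hP (hs ▸ ha)) _).1 ihb) iha
  | inv a ha iha =>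
    rw [show ⁅a⁻¹, g⁆ = a⁻¹ * ⁅a, g⁆⁻¹ * a⁻¹⁻¹ by simp only [commutatorElement_def]; group]
    exact (Subgroup.mem_normalizer_iff.1 (hP (inv_mem (hs ▸ ha))) _).1 (inv_mem iha)

namespace TwoCert

variable (C : TwoCert)

lemma gen_valid (h : C.checkTables = true) {k : ℕ} (hk : k < C.R.n) :
    validT (C.gen k) = true ∧ mkPerm (C.gen k) ∈ stabGrp [] C.F := by
  simp only [checkTables, Bool.and_eq_true, List.all_eq_true, beq_iff_eq] at h
  obtain ⟨⟨⟨⟨⟨⟨hlen, -⟩, hg⟩, -⟩, -⟩, -⟩, -⟩ := h
  have hmem : C.gen k ∈ C.gens := by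
    rw [gen, List.getD_eq_getElem _ _ (hlen ▸ hk)]
    exact List.getElem_mem _
  have := hg _ hmem
  refine ⟨?_, mem_stabGrp_of_inStab this⟩
  simp only [inStab, Bool.and_eq_true] at this
  exact validT_of_inM24 this.1.1

lemma elT_spec (h : C.checkTables = true) (m : ℕ) :
    validT (C.elT m) = true ∧
      mkPerm (C.elT m) = ((bitsOf C.R.n m).map fun k => mkPerm (C.gen k)).prod := by
  have key : ∀ (l : List ℕ), (∀ k ∈ l, k < C.R.n) → ∀ acc, validT acc = true →
      validT (l.foldl (fun acc k => tblMul acc (C.gen k)) acc) = true ∧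
      mkPerm (l.foldl (fun acc k => tblMul acc (C.gen k)) acc)
        = mkPerm acc * (l.map fun k => mkPerm (C.gen k)).prod := by
    intro l
    induction l with
    | nil => intro _ acc ha; exact ⟨ha, by simp⟩
    | cons k t ih =>
      intro hl acc ha
      have hk := (C.gen_valid h (hl k (by simp))).1
      obtain ⟨h1, h2⟩ := tblMul_spec ha hk
      obtain ⟨h3, h4⟩ := ih (fun j hj => hl j (List.mem_cons_of_mem _ hj)) _ h1
      rw [List.foldl_cons]
      exact ⟨h3, h4.trans (by rw [h2, List.map_cons, List.prod_cons, mul_assoc])⟩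
  rw [elT]
  obtain ⟨h1, h2⟩ := key (bitsOf C.R.n m) (fun k hk => (Model.bitsOf_mem.1 hk).1) idTblVal
    idTblVal_spec.1
  exact ⟨h1, h2.trans (by rw [idTblVal_spec.2, one_mul])⟩

/-- The rules hold for the tables. -/
noncomputable def permModel (h : C.checkTables = true) : Model C.R (Equiv.Perm GolayPt) where
  G k := mkPerm (C.gen k)
  V _ := 1
  V_zero := rfl
  V_xor _ _ := (one_mul 1).symm
  V_central _ x := (mul_one x).trans (one_mul x).symm
  sq_rule i hi := by
    have h' := h
    simp only [checkTables, Bool.and_eq_true, List.all_eq_true, List.mem_range] at h'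
    obtain ⟨hv, he⟩ := C.elT_spec h (C.R.sqRule i).1
    have := ((h'.1.1.2 i hi).1)
    rw [tblEq_iff (tblMul_spec (C.gen_valid h hi).1 (C.gen_valid h hi).1).1 hv,
      (tblMul_spec (C.gen_valid h hi).1 (C.gen_valid h hi).1).2, he] at this
    rw [this, mul_one]
  cm_rule i j hij hj := by
    have h' := h
    simp only [checkTables, Bool.and_eq_true, List.all_eq_true, List.mem_range] at h'
    have hi : i < C.R.n := hij.trans hj
    obtain ⟨hv, he⟩ := C.elT_spec h (C.R.cmRule j i).1
    have := ((h'.1.1.2 j hj).2 i hij)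
    obtain ⟨vij, eij⟩ := tblMul_spec (C.gen_valid h hi).1 (C.gen_valid h hj).1
    obtain ⟨vji, eji⟩ := tblMul_spec (C.gen_valid h hj).1 (C.gen_valid h hi).1
    rw [tblEq_iff vji (tblMul_spec vij hv).1, eji, (tblMul_spec vij hv).2, eij, he] at this
    rw [this, mul_one]

lemma imgT_spec (h : C.checkTables = true) (m : ℕ) {b : ℕ} (hb : b < 24) :
    C.imgT m b = idx ((C.permModel h).nf m (pt b)) := by
  have key : ∀ l : List ℕ, (∀ k ∈ l, k < C.R.n) →
      l.foldr (fun k x => app (C.gen k) x) b
        = idx ((l.map fun k => mkPerm (C.gen k)).prod (pt b)) := by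
    intro l
    induction l with
    | nil => intro _; simp [idx_pt b hb]
    | cons k t ih =>
      intro hl
      rw [List.foldr_cons, ih fun j hj => hl j (List.mem_cons_of_mem _ hj), List.map_cons,
        List.prod_cons, Equiv.Perm.mul_apply, idx_mkPerm (C.gen_valid h (hl k (by simp))).1]
  exact key _ fun k hk => (Model.bitsOf_mem.1 hk).1

lemma code_congr (h : C.checkTables = true) {a b : ℕ}
    (he : (C.permModel h).nf a = (C.permModel h).nf b) : C.code a = C.code b := by
  simp only [code, List.foldl_cons, List.foldl_nil]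
  simp only [C.imgT_spec h a (show (23 : ℕ) < 24 by norm_num),
    C.imgT_spec h a (show (0 : ℕ) < 24 by norm_num), C.imgT_spec h a (show (1 : ℕ) < 24 by norm_num),
    C.imgT_spec h a (show (2 : ℕ) < 24 by norm_num), C.imgT_spec h a (show (3 : ℕ) < 24 by norm_num),
    C.imgT_spec h a (show (5 : ℕ) < 24 by norm_num), C.imgT_spec h a (show (4 : ℕ) < 24 by norm_num),
    C.imgT_spec h b (show (23 : ℕ) < 24 by norm_num),
    C.imgT_spec h b (show (0 : ℕ) < 24 by norm_num), C.imgT_spec h b (show (1 : ℕ) < 24 by norm_num),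
    C.imgT_spec h b (show (2 : ℕ) < 24 by norm_num), C.imgT_spec h b (show (3 : ℕ) < 24 by norm_num),
    C.imgT_spec h b (show (5 : ℕ) < 24 by norm_num), C.imgT_spec h b (show (4 : ℕ) < 24 by norm_num),
    he]

theorem nf_injective (h : C.checkTables = true) (hg : C.checkGroup = true) {a b : ℕ}
    (ha : a < 2 ^ C.R.n) (hb : b < 2 ^ C.R.n)
    (he : (C.permModel h).nf a = (C.permModel h).nf b) : a = b := by
  simp only [checkGroup, Bool.and_eq_true, List.all_eq_true, decide_eq_true_eq, beq_iff_eq] at hg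
  obtain ⟨⟨⟨-, hlen⟩, hlt⟩, hinc⟩ := hg
  have hnd := isIncr_nodup hinc
  have hfull : C.order.toFinset = Finset.range (2 ^ C.R.n) := by
    refine Finset.eq_of_subset_of_card_le
      (fun x hx => Finset.mem_range.2 (hlt x (List.mem_toFinset.1 hx))) ?_
    rw [Finset.card_range, List.toFinset_card_of_nodup (List.Nodup.of_map _ hnd), hlen]
  have hmem : ∀ x < 2 ^ C.R.n, x ∈ C.order := fun x hx =>
    List.mem_toFinset.1 (hfull ▸ Finset.mem_range.2 hx)
  exact List.inj_on_of_nodup_map hnd (hmem a ha) (hmem b hb) (C.code_congr h he)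

lemma above_of_inDer {w : ℕ} (h : C.inDer w = true) : Above C.nb w := by
  rw [inDer, beq_iff_eq] at h
  exact h ▸ above_shift _ _

variable {Γ : Type} [Group Γ] [Finite Γ] (σ : Γ →* ↥(stabGrp [] C.F))

/-- The certificate excludes stem extensions with kernel of order two. -/
theorem noStem_two (ht : C.checkTables = true) (hg : C.checkGroup = true)
    (hf : C.checkForms = true) {r : ℕ} (hr : Odd r)
    (hK : Nat.card ↥(stabGrp [] C.F) = 2 ^ C.R.n * r) (hσ : IsStemExtension σ) :
    Nat.card σ.ker ≠ 2 := by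
  classical
  intro h2
  set ρ : Γ →* Equiv.Perm GolayPt := (stabGrp [] C.F).subtype.comp σ with hρdef
  have hker : ∀ x, ρ x = 1 ↔ x ∈ σ.ker := fun x => by
    rw [MonoidHom.mem_ker]
    exact ⟨fun h => Subtype.ext h, fun h => by simp [hρdef, h]⟩
  have hcen : ∀ x, ρ x = 1 → ∀ y : Γ, y * x = x * y := fun x hx y =>
    Subgroup.mem_center_iff.1 (hσ.2.1 ((hker x).1 hx)) y
  have hsurj : ∀ g ∈ (stabGrp [] C.F), ∃ x, ρ x = g := fun g hg => by
    obtain ⟨x, hx⟩ := hσ.1 ⟨g, hg⟩
    exact ⟨x, by simp [hρdef, hx]⟩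
  have hsq : ∀ x, ρ x = 1 → x * x = 1 := by
    intro x hx
    have := pow_card_eq_one' (x := (⟨x, (hker x).1 hx⟩ : σ.ker))
    rw [h2] at this
    have h' := congrArg Subtype.val this
    simpa [sq] using h'
  have ht' := ht
  simp only [checkTables, Bool.and_eq_true, List.all_eq_true, decide_eq_true_eq, beq_iff_eq,
    List.mem_range] at ht'
  obtain ⟨⟨⟨⟨⟨⟨-, hnb⟩, -⟩, hrules⟩, -⟩, hdefs⟩, hdlen⟩ := ht'
  set PM := C.permModel ht with hPM
  -- lifts, obeying the defining rules
  obtain ⟨G, hG1, hG2⟩ : ∃ G : ℕ → Γ, (∀ k < C.R.n, ρ (G k) = PM.G k) ∧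
      ∀ d < C.defs.length, ∀ t j i, C.defs.getD d (0, 0, 0) = (t, j, i) →
        (t = 0 → G j * G j = G (C.nb + d)) ∧
        (t = 1 → G j * G i = G i * G j * G (C.nb + d)) := by
    suffices ∀ f ≤ C.defs.length, ∃ G : ℕ → Γ, (∀ k < C.R.n, ρ (G k) = PM.G k) ∧
        ∀ d < f, ∀ t j i, C.defs.getD d (0, 0, 0) = (t, j, i) →
          (t = 0 → G j * G j = G (C.nb + d)) ∧
          (t = 1 → G j * G i = G i * G j * G (C.nb + d)) from this _ le_rfl
    intro f
    induction f with
    | zero =>
      intro _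
      have hex : ∀ k, ∃ x, k < C.R.n → ρ x = PM.G k := fun k => by
        by_cases hk : k < C.R.n
        · obtain ⟨x, hx⟩ := hsurj _ (C.gen_valid ht hk).2
          exact ⟨x, fun _ => hx⟩
        · exact ⟨1, fun h => absurd h hk⟩
      choose s hs using hex
      exact ⟨s, hs, fun d hd => absurd hd (Nat.not_lt_zero d)⟩
    | succ f ih =>
      intro hf'
      obtain ⟨G, h1, h2⟩ := ih (Nat.le_of_succ_le hf')
      have hspec := hdefs f hf'
      generalize hd : C.defs.getD f (0, 0, 0) = d at hspec
      obtain ⟨t, j, i⟩ := d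
      simp only [Bool.and_eq_true, Bool.or_eq_true, decide_eq_true_eq, beq_iff_eq] at hspec
      obtain ⟨⟨hw, hj⟩, hti⟩ := hspec
      have hkn : C.nb + f < C.R.n := by omega
      let x := if t = 0 then G j * G j else (G i * G j)⁻¹ * (G j * G i)
      have hx : ρ x = PM.G (C.nb + f) := by
        have hjn : j < C.R.n := by omega
        rcases hti with ⟨rfl, rfl⟩ | ⟨rfl, hij⟩
        · simp only [x, if_pos, map_mul, h1 j hjn]
          rw [PM.sq_rule j hjn, show PM.V _ = 1 from rfl, mul_one]
          simp only [wordOf] at hw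
          rw [show (C.R.sqRule j).1 = 2 ^ (C.nb + f) from hw]
          exact PM.nf_two_pow hkn
        · simp only [x, Nat.one_ne_zero, if_false, map_mul, map_inv, h1 j hjn,
            h1 i (hij.trans hjn)]
          rw [PM.cm_rule i j hij hjn, show PM.V _ = 1 from rfl, mul_one, inv_mul_cancel_left]
          simp only [wordOf] at hw
          rw [show (C.R.cmRule j i).1 = 2 ^ (C.nb + f) from hw]
          exact PM.nf_two_pow hkn
      refine ⟨Function.update G (C.nb + f) x, fun k hk => ?_, fun d hd' t' j' i' he => ?_⟩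
      · by_cases hkf : k = C.nb + f
        · subst hkf; rw [Function.update_self, hx]
        · rw [Function.update_of_ne hkf, h1 k hk]
      rcases Nat.lt_succ_iff_lt_or_eq.1 hd' with hlt | rfl
      · have hspec' := hdefs d (by omega)
        rw [he] at hspec'
        simp only [Bool.and_eq_true, Bool.or_eq_true, decide_eq_true_eq, beq_iff_eq] at hspec'
        obtain ⟨⟨-, hj'⟩, hti'⟩ := hspec'
        rw [Function.update_of_ne (show j' ≠ C.nb + f by omega),
          Function.update_of_ne (show C.nb + d ≠ C.nb + f by omega)]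
        obtain ⟨e1, e2⟩ := h2 d hlt t' j' i' he
        refine ⟨e1, fun ht1 => ?_⟩
        have hi' : i' < j' := by rcases hti' with h | h <;> omega
        rw [Function.update_of_ne (show i' ≠ C.nb + f by omega)]
        exact e2 ht1
      · rw [hd] at he
        simp only [Prod.mk.injEq] at he
        obtain ⟨rfl, rfl, rfl⟩ := he
        rw [Function.update_of_ne (show j ≠ C.nb + d by omega), Function.update_self]
        refine ⟨fun h0 => by simp [x, h0], fun h1' => ?_⟩
        have hi : i < j := by rcases hti with h | h <;> omega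
        rw [Function.update_of_ne (show i ≠ C.nb + d by omega)]
        simp only [x, h1', Nat.one_ne_zero, if_false]
        rw [mul_inv_cancel_left]
  -- normal forms and tails
  let NF : ℕ → Γ := fun w => ((bitsOf C.R.n w).map G).prod
  have hρNF : ∀ w, ρ (NF w) = PM.nf w := fun w => by
    simp only [NF, Model.nf, map_list_prod, List.map_map]
    congr 1
    exact List.map_congr_left fun k hk => hG1 k (Model.bitsOf_mem.1 hk).1
  let disc : ℕ × ℕ × ℕ → Γ := fun r =>
    if r.1 = 0 then (NF (C.wordOf r))⁻¹ * (G r.2.1 * G r.2.1)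
    else (G r.2.2 * G r.2.1 * NF (C.wordOf r))⁻¹ * (G r.2.1 * G r.2.2)
  let Dv : ℕ → Γ := fun v => if ρ (disc (C.vars.getD v (0, 0, 0))) = 1 then
    disc (C.vars.getD v (0, 0, 0)) else 1
  have hDv : ∀ v, ρ (Dv v) = 1 := fun v => by
    simp only [Dv]; split_ifs with h
    exacts [h, map_one ρ]
  let Vn : ℕ → ℕ → Γ := fun N f => ((List.range N).map fun v =>
    if f.testBit v then Dv v else 1).prod
  have hVρ : ∀ N f, ρ (Vn N f) = 1 := fun N f => by
    simp only [Vn, map_list_prod, List.map_map]
    refine List.prod_eq_one fun y hy => ?_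
    obtain ⟨v, -, rfl⟩ := List.mem_map.1 hy
    simp only [Function.comp]
    split_ifs
    exacts [hDv v, map_one ρ]
  have hVsucc : ∀ N f, Vn (N + 1) f = Vn N f * if f.testBit N then Dv N else 1 := fun N f => by
    simp [Vn, List.range_succ]
  have hVxor : ∀ N a b, Vn N (a ^^^ b) = Vn N a * Vn N b := by
    intro N
    induction N with
    | zero => intro a b; simp [Vn]
    | succ N ih =>
      intro a b
      rw [hVsucc, hVsucc, hVsucc, ih, Nat.testBit_xor]
      have hc : ∀ y, y * (if a.testBit N then Dv N else 1) = (if a.testBit N then Dv N else 1) * y :=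
        fun y => by split_ifs <;> [exact hcen _ (hDv N) y; simp]
      rw [mul_assoc (Vn N a) (if a.testBit N then Dv N else 1), ← mul_assoc _ (Vn N b),
        ← hc (Vn N b)]
      simp only [mul_assoc]
      congr 2
      cases a.testBit N <;> cases b.testBit N <;> simp [hsq _ (hDv N)]
  have hVzero : ∀ N, Vn N 0 = 1 := fun N => by
    simp [Vn]
  have hVpow : ∀ N v, v < N → Vn N (2 ^ v) = Dv v := by
    intro N
    induction N with
    | zero => intro v hv; omega
    | succ N ih =>
      intro v hv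
      rw [hVsucc, Nat.testBit_two_pow]
      rcases Nat.lt_succ_iff_lt_or_eq.1 hv with hlt | rfl
      · rw [ih v hlt]; simp [hlt.ne]
      · have : Vn v (2 ^ v) = 1 := by
          refine List.prod_eq_one fun y hy => ?_
          obtain ⟨w, hw, rfl⟩ := List.mem_map.1 hy
          simp [Nat.testBit_two_pow, (List.mem_range.1 hw).ne']
        rw [this]; simp
  let V : ℕ → Γ := Vn C.vars.length
  have hrule : ∀ r ∈ C.allRules, ρ (disc r) = 1 → V (C.formOf r) = disc r := by
    intro r hr hρr
    have hok := (hrules r hr).1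
    simp only [ruleOK, Bool.or_eq_true, Bool.and_eq_true, beq_iff_eq, List.contains_iff_mem,
      List.any_eq_true, List.mem_range] at hok
    rcases hok with ⟨h0, hd⟩ | ⟨v, hv, hfv, hvr⟩
    · rw [h0, show V 0 = 1 from hVzero _]
      obtain ⟨d, hdl, hde⟩ := List.getElem_of_mem hd
      have hgd : C.defs.getD d (0, 0, 0) = r := by rw [List.getD_eq_getElem _ _ hdl, hde]
      obtain ⟨t, j, i⟩ := r
      have hspec := hdefs d hdl
      rw [hgd] at hspec
      simp only [Bool.and_eq_true, Bool.or_eq_true, decide_eq_true_eq, beq_iff_eq] at hspec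
      obtain ⟨⟨hw, -⟩, hti⟩ := hspec
      have hnfd : NF (C.wordOf (t, j, i)) = G (C.nb + d) := by
        rw [hw]
        show ((bitsOf C.R.n (2 ^ (C.nb + d))).map G).prod = _
        rw [Model.bitsOf_split (n := C.R.n) (j := C.nb + d) (by omega) (by simp)
          (fun k hk _ => by rw [Nat.testBit_two_pow]; simp [hk.ne]), Nat.xor_self]
        simp [bitsOf]
      obtain ⟨e0, e1⟩ := hG2 d hdl t j i hgd
      rcases hti with ⟨rfl, rfl⟩ | ⟨rfl, -⟩
      · simp only [disc, if_pos]
        rw [hnfd, e0 rfl, inv_mul_cancel]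
      · simp only [disc, Nat.one_ne_zero, if_false]
        rw [hnfd, e1 rfl, inv_mul_cancel]
    · rw [hfv, show V (2 ^ v) = Dv v from hVpow _ v hv]
      simp only [Dv, hvr, hρr, if_true]
  have hmem0 : ∀ j < C.R.n, (0, j, 0) ∈ C.allRules := fun j hj => by
    simp only [allRules, List.mem_flatMap, List.mem_range, List.mem_cons]
    exact ⟨j, hj, .inl rfl⟩
  have hmem1 : ∀ j i, i < j → j < C.R.n → (1, j, i) ∈ C.allRules := fun j i hij hj => by
    simp only [allRules, List.mem_flatMap, List.mem_range, List.mem_cons, List.mem_map]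
    exact ⟨j, hj, .inr ⟨i, hij, rfl⟩⟩
  let M : Model C.R Γ :=
    { G := G
      V := V
      V_zero := hVzero _
      V_xor := hVxor _
      V_central := fun a x => hcen _ (hVρ _ a) x
      sq_rule := fun i hi => by
        have hd : ρ (disc (0, i, 0)) = 1 := by
          simp only [disc, if_pos, map_mul, map_inv, hG1 i hi, hρNF, wordOf]
          rw [PM.sq_rule i hi, show PM.V _ = 1 from rfl, mul_one]
          exact inv_mul_cancel _
        have := hrule _ (hmem0 i hi) hd
        simp only [disc, if_pos, formOf, wordOf] at this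
        rw [this]
        exact (mul_inv_cancel_left _ _).symm
      cm_rule := fun i j hij hj => by
        have hd : ρ (disc (1, j, i)) = 1 := by
          simp only [disc, Nat.one_ne_zero, if_false, map_mul, map_inv, hG1 j hj,
            hG1 i (hij.trans hj), hρNF, wordOf]
          rw [PM.cm_rule i j hij hj, show PM.V _ = 1 from rfl, mul_one]
          exact inv_mul_cancel _
        have := hrule _ (hmem1 j i hij hj) hd
        simp only [disc, Nat.one_ne_zero, if_false, formOf, wordOf] at this
        rw [this]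
        exact (mul_inv_cancel_left _ _).symm }
  have hρnf : ∀ w, ρ (M.nf w) = PM.nf w := hρNF
  have hρV : ∀ f, ρ (M.V f) = 1 := hVρ _
  have helT : ∀ w, PM.nf w = mkPerm (C.elT w) := fun w => (C.elT_spec ht w).2.symm
  have hmul : ∀ u v a f, C.mul2 u v = some (a, f) → M.nf u * M.nf v = M.nf a * M.V f :=
    fun u v a f h => M.mulList_spec (fun a b c d e => M.mulGen_spec fuel a b c d e) _ _ _ _ h
  have hmul0 : ∀ (ks : List ℕ) a f, mulList (mulGen C.R fuel) ks 0 = some (a, f) →
      (ks.map M.G).prod = M.nf a * M.V f := fun ks a f h => by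
    have := M.mulList_spec (fun a b c d e => M.mulGen_spec fuel a b c d e) _ _ _ _ h
    rwa [M.nf_zero, one_mul] at this
  have hcm : ∀ u v f, C.cmForm u v = some f → M.nf u * M.nf v = M.nf v * M.nf u * M.V f := by
    intro u v f h
    simp only [cmForm] at h
    split at h
    · next a f₁ b g₁ h₁ h₂ =>
      split at h
      · next hab =>
        simp only [Option.some.injEq] at h
        rw [beq_iff_eq] at hab
        subst hab
        subst h
        rw [hmul u v a f₁ h₁, hmul v u a g₁ h₂, M.V_xor, mul_assoc, ← M.V_central f₁ (M.V g₁),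
          ← mul_assoc (M.V g₁), ← M.V_xor, Nat.xor_self, M.V_zero, one_mul]
      · simp at h
    · simp at h
  have hconj : ∀ h u a, inStab [] C.F h = true → conjB h (C.elT u) (C.elT a) = true →
      ∀ H, ρ H = mkPerm h → ∃ c, ρ c = 1 ∧ H * M.nf u * H⁻¹ = M.nf a * c := by
    intro h u a hh hc H hH
    have hvh : validT h = true := by
      simp only [inStab, Bool.and_eq_true] at hh
      exact validT_of_inM24 hh.1.1
    rw [conjB_iff hvh (C.elT_spec ht u).1 (C.elT_spec ht a).1, ← helT, ← helT] at hc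
    refine ⟨(M.nf a)⁻¹ * (H * M.nf u * H⁻¹), ?_, (mul_inv_cancel_left _ _).symm⟩
    simp only [map_mul, map_inv, hρnf, hH, hc, inv_mul_cancel]
  -- the equations hold
  have htri : ∀ x e, C.triEq x = some e → M.V e = 1 := by
    rintro ⟨k, j, i⟩ e h
    simp only [triEq] at h
    split at h
    · next a f₁ p g₁ h₁ h₂ =>
      split at h
      · next a' g₂ h₃ =>
        split at h
        · next hab =>
          simp only [Option.some.injEq] at h
          rw [beq_iff_eq] at hab
          subst hab
          subst h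
          have e1 := hmul0 _ _ _ h₁
          have e2 := hmul0 _ _ _ h₂
          have e3 := hmul0 _ _ _ h₃
          rw [List.map_cons, List.prod_cons] at e3
          change M.G k * M.nf p = _ at e3
          rw [List.map_cons, List.prod_cons, e2, ← mul_assoc, e3, mul_assoc,
            mul_left_cancel_iff] at e1
          rw [M.V_xor, M.V_xor, ← e1, ← mul_assoc, mul_assoc (M.V g₂), ← M.V_xor, Nat.xor_self,
            M.V_zero, mul_one, ← M.V_xor, Nat.xor_self, M.V_zero]
        · simp at h
      · simp at h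
    · simp at h
  have hsqe : ∀ x e, C.sqEq x = some e → M.V e = 1 := by
    rintro ⟨u, w, h₀⟩ e h
    simp only [sqEq] at h
    split at h
    · next a f₁ b g₁ h₁ h₂ =>
      split at h
      · next hc =>
        simp only [Bool.and_eq_true, beq_iff_eq] at hc
        obtain ⟨⟨⟨rfl, rfl⟩, hh⟩, hc⟩ := hc
        simp only [Option.some.injEq] at h
        subst h
        obtain ⟨H, hH⟩ := hsurj _ (mem_stabGrp_of_inStab hh)
        obtain ⟨c, hc1, hce⟩ := hconj _ u w hh hc H hH
        have e1 := hmul u u _ f₁ h₁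
        have e2 := hmul w w _ g₁ h₂
        rw [M.nf_zero, one_mul] at e1 e2
        have : H * (M.nf u * M.nf u) * H⁻¹ = M.nf w * M.nf w := by
          calc H * (M.nf u * M.nf u) * H⁻¹ = (H * M.nf u * H⁻¹) * (H * M.nf u * H⁻¹) := by group
            _ = M.nf w * (c * M.nf w) * c := by rw [hce]; simp only [mul_assoc]
            _ = M.nf w * M.nf w * (c * c) := by rw [← hcen c hc1 (M.nf w)]; simp only [mul_assoc]
            _ = M.nf w * M.nf w := by rw [hsq c hc1, mul_one]
        rw [e1, e2, M.V_central f₁ H, mul_inv_cancel_right] at this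
        rw [M.V_xor, this, ← M.V_xor, Nat.xor_self, M.V_zero]
      · simp at h
    · simp at h
  have hodd : ∀ x e, C.oddEq x = some e → M.V e = 1 := by
    rintro ⟨u, v, fs⟩ e h
    simp only [oddEq] at h
    split at h
    · next hc =>
      rw [Bool.and_eq_true] at hc
      obtain ⟨hfs, hprod⟩ := hc
      have key : ∀ l : List (ℕ × ℕ), (l.all fun a => inStab [] C.F a.1 &&
          commB a.1 (C.elT u) && (a.2 % 2 == 1) && tblEq (powT a.2 a.1) idTblVal) = true →
          ∀ acc X, validT acc = true → ρ X = mkPerm acc → Commute X (M.nf u) →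
          ∃ Y, ρ Y = mkPerm (l.foldl (fun acc a => tblMul acc a.1) acc) ∧ Commute Y (M.nf u) ∧
            validT (l.foldl (fun acc a => tblMul acc a.1) acc) = true := by
        intro l
        induction l with
        | nil => intro _ acc X hv hX hXu; exact ⟨X, hX, hXu, hv⟩
        | cons a t ih =>
          intro hall acc X hv hX hXu
          simp only [List.all_cons, Bool.and_eq_true, beq_iff_eq] at hall
          obtain ⟨⟨⟨⟨hst, hcb⟩, hodd⟩, hpow⟩, htl⟩ := hall
          have hva : validT a.1 = true := by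
            have := hst
            simp only [inStab, Bool.and_eq_true] at this
            exact validT_of_inM24 this.1.1
          obtain ⟨A, hA⟩ := hsurj _ (mem_stabGrp_of_inStab hst)
          rw [commB_iff hva (C.elT_spec ht u).1, ← helT] at hcb
          rw [tblEq_iff (powT_spec hva a.2).1 idTblVal_spec.1, (powT_spec hva a.2).2,
            idTblVal_spec.2] at hpow
          set c := (M.nf u)⁻¹ * (A * M.nf u * A⁻¹) with hc_def
          have hc1 : ρ c = 1 := by
            simp only [hc_def, map_mul, map_inv, hρnf, hA, hcb, mul_inv_cancel_right,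
              inv_mul_cancel]
          have hconjA : A * M.nf u * A⁻¹ = M.nf u * c := (mul_inv_cancel_left _ _).symm
          have hk : ∀ k : ℕ, A ^ k * M.nf u * (A ^ k)⁻¹ = M.nf u * c ^ k := by
            intro k
            induction k with
            | zero => simp
            | succ k ihk =>
              calc A ^ (k + 1) * M.nf u * (A ^ (k + 1))⁻¹
                  = A * (A ^ k * M.nf u * (A ^ k)⁻¹) * A⁻¹ := by rw [pow_succ']; group
                _ = (A * M.nf u * A⁻¹) * (A * c ^ k * A⁻¹) := by rw [ihk]; group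
                _ = M.nf u * c ^ (k + 1) := by
                  rw [hconjA, hcen (c ^ k) (by rw [map_pow, hc1, one_pow]) A, mul_inv_cancel_right,
                    mul_assoc, ← pow_succ']
          have hkey := hk a.2
          have hAk : ρ (A ^ a.2) = 1 := by rw [map_pow, hA, hpow]
          rw [← hcen _ hAk (M.nf u), mul_inv_cancel_right] at hkey
          have hck : c ^ a.2 = 1 := left_eq_mul.1 hkey
          have hc0 : c = 1 := by
            have hd : a.2 = 2 * (a.2 / 2) + 1 := by omega
            rw [hd, pow_succ, pow_mul, sq, hsq c hc1, one_pow, one_mul] at hck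
            exact hck
          have hAu : Commute A (M.nf u) := by
            rw [hc0, mul_one, mul_inv_eq_iff_eq_mul] at hconjA
            exact hconjA
          obtain ⟨h1, h2⟩ := tblMul_spec hv hva
          exact ih htl (tblMul acc a.1) (X * A) h1 (by rw [map_mul, hX, hA, h2])
            (hXu.mul_left hAu)
      obtain ⟨Y, hY, hYu, hYv⟩ := key fs hfs idTblVal 1 idTblVal_spec.1
        (by rw [map_one, idTblVal_spec.2]) (Commute.one_left _)
      rw [tblEq_iff hYv (C.elT_spec ht v).1, ← hY, ← helT, ← hρnf] at hprod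
      have hz : ρ (Y⁻¹ * M.nf v) = 1 := by rw [map_mul, map_inv, hprod, inv_mul_cancel]
      have hvu : Commute (M.nf v) (M.nf u) := by
        have hc : Commute (Y⁻¹ * M.nf v) (M.nf u) := (hcen _ hz (M.nf u)).symm
        have := hYu.mul_left hc
        rwa [mul_inv_cancel_left] at this
      have := hcm u v e h
      rw [hvu.eq] at this
      exact left_eq_mul.1 this
    · simp at h
  have hcme : ∀ x e, C.cmEq x = some e → M.V e = 1 := by
    rintro ⟨u, v, a, b, h₀⟩ e h
    simp only [cmEq] at h
    split at h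
    · next f₁ g₁ h₁ h₂ =>
      split at h
      · next hc =>
        simp only [Bool.and_eq_true] at hc
        obtain ⟨⟨hh, hca⟩, hcb⟩ := hc
        simp only [Option.some.injEq] at h
        subst h
        obtain ⟨H, hH⟩ := hsurj _ (mem_stabGrp_of_inStab hh)
        obtain ⟨c, hc1, hce⟩ := hconj _ u a hh hca H hH
        obtain ⟨d, hd1, hde⟩ := hconj _ v b hh hcb H hH
        have e1 := hcm u v _ h₁
        have e2 := hcm a b _ h₂
        have key : H * (M.nf u * M.nf v) * H⁻¹ = H * (M.nf v * M.nf u) * H⁻¹ * M.V f₁ := by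
          rw [e1]
          calc H * (M.nf v * M.nf u * M.V f₁) * H⁻¹
              = H * (M.nf v * M.nf u) * (M.V f₁ * H⁻¹) := by simp only [mul_assoc]
            _ = _ := by rw [← M.V_central f₁ H⁻¹]; simp only [mul_assoc]
        rw [show H * (M.nf u * M.nf v) * H⁻¹ = (H * M.nf u * H⁻¹) * (H * M.nf v * H⁻¹) by group,
          show H * (M.nf v * M.nf u) * H⁻¹ = (H * M.nf v * H⁻¹) * (H * M.nf u * H⁻¹) by group,
          hce, hde] at key
        have l1 : M.nf a * c * (M.nf b * d) = M.nf a * M.nf b * (c * d) := by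
          rw [mul_assoc, ← mul_assoc c, ← hcen c hc1 (M.nf b)]; simp only [mul_assoc]
        have l2 : M.nf b * d * (M.nf a * c) = M.nf b * M.nf a * (c * d) := by
          rw [mul_assoc, ← mul_assoc d, ← hcen d hd1 (M.nf a), mul_assoc (M.nf a), hcen c hc1 d]
          simp only [mul_assoc]
        rw [l1, l2, e2, mul_assoc, mul_assoc (M.nf b * M.nf a), mul_left_cancel_iff,
          ← M.V_central g₁ (c * d), mul_left_cancel_iff] at key
        rw [M.V_xor, key, ← M.V_xor, Nat.xor_self, M.V_zero]
      · simp at h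
    · simp at h
  simp only [checkForms, Bool.and_eq_true, List.all_eq_true, List.mem_range] at hf
  obtain ⟨⟨⟨hsome, hproofs⟩, hcmZ⟩, hclosed⟩ := hf
  have heq : ∀ n, M.V (C.eqForms.getD n 0) = 1 := by
    intro n
    by_cases hn : n < C.eqs.length
    · have hn' : n < C.eqForms.length := by simpa [eqForms] using hn
      have hm := List.getElem_mem hn
      obtain ⟨e, he⟩ := Option.isSome_iff_exists.1 (hsome _ hm)
      have : C.eqForms.getD n 0 = e := by
        rw [List.getD_eq_getElem _ _ hn']
        simp [eqForms, he]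
      rw [this]
      rw [he] at hm
      simp only [eqs, List.mem_append, List.mem_map] at hm
      rcases hm with ((⟨x, -, hx⟩ | ⟨x, -, hx⟩) | ⟨x, -, hx⟩) | ⟨x, -, hx⟩
      exacts [htri x e hx, hsqe x e hx, hodd x e hx, hcme x e hx]
    · rw [List.getD_eq_default _ _ (by simpa [eqForms] using Nat.le_of_not_lt hn)]
      exact M.V_zero
  have hfold : ∀ (l : List ℕ) acc,
      M.V (l.foldl (fun acc e => acc ^^^ C.eqForms.getD e 0) acc) = M.V acc := by
    intro l
    induction l with
    | nil => intro acc; rfl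
    | cons a t ih => intro acc; rw [List.foldl_cons, ih, M.V_xor, heq, mul_one]
  have hZ : ∀ f, f &&& C.Z = f → M.V f = 1 := by
    intro f hfZ
    refine List.prod_eq_one fun y hy => ?_
    obtain ⟨v, hv, rfl⟩ := List.mem_map.1 hy
    split_ifs with hb
    · have hv' := List.mem_range.1 hv
      have hz : C.Z.testBit v = true := by
        rw [← hfZ, Nat.testBit_and, Bool.and_eq_true] at hb
        exact hb.2
      have hp := hproofs v hv'
      rw [hz, Bool.not_true, Bool.false_or, List.any_eq_true] at hp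
      obtain ⟨⟨v', l⟩, -, hpe⟩ := hp
      simp only [Bool.and_eq_true, beq_iff_eq] at hpe
      have := hfold l 0
      rw [hpe.2, M.V_zero] at this
      rw [← hVpow C.vars.length v hv']
      exact this
    · rfl
  -- the later generators
  have hcl : ∀ m i, Above C.nb m → m < 2 ^ C.R.n → C.nb ≤ i → i < C.R.n →
      ∃ r f, Above C.nb r ∧ r < 2 ^ C.R.n ∧ mulGen C.R fuel m i = some (r, f) ∧
        f &&& C.Z = f := by
    intro m i hm hmn hi1 hi2
    have hs : m >>> C.nb < 2 ^ (C.R.n - C.nb) := by
      rw [Nat.shiftRight_eq_div_pow, Nat.div_lt_iff_lt_mul (Nat.two_pow_pos _), ← pow_add,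
        Nat.sub_add_cancel hnb]
      exact hmn
    have := hclosed _ hs (i - C.nb) (by omega)
    rw [← eq_shift_of_above hm, Nat.add_sub_cancel' hi1] at this
    split at this
    · next r f he =>
      simp only [Bool.and_eq_true, decide_eq_true_eq, beq_iff_eq] at this
      exact ⟨r, f, C.above_of_inDer this.1.1, this.1.2, he, this.2⟩
    · simp at this
  have hcmPM : ∀ a b, a < b → b < C.R.n → C.nb ≤ b →
      Above C.nb (C.R.cmRule b a).1 ∧ PM.V (C.R.cmRule b a).2 = 1 := fun a b hab hb _ => by
    have := hcmZ b hb a hab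
    exact ⟨C.above_of_inDer this.1, rfl⟩
  have hcmM : ∀ a b, a < b → b < C.R.n →
      Above C.nb (C.R.cmRule b a).1 ∧ M.V (C.R.cmRule b a).2 = 1 := fun a b hab hb => by
    have := hcmZ b hb a hab
    simp only [beq_iff_eq] at this
    exact ⟨C.above_of_inDer this.1, hZ _ this.2⟩
  -- the Sylow subgroup
  set Qp : Subgroup (Equiv.Perm GolayPt) :=
    Subgroup.closure {x | ∃ k, k < C.R.n ∧ PM.G k = x} with hQp
  have hGQ : ∀ k < C.R.n, PM.G k ∈ Qp := fun k hk => Subgroup.subset_closure ⟨k, hk, rfl⟩
  have hnfQ : ∀ w, PM.nf w ∈ Qp := fun w => list_prod_mem fun x hx => by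
    obtain ⟨k, hk, rfl⟩ := List.mem_map.1 hx
    exact hGQ k (Model.bitsOf_mem.1 hk).1
  have hderPM : ∀ x ∈ PM.derSub C.nb, ∃ m, Above C.nb m ∧ m < 2 ^ C.R.n ∧ PM.nf m = x :=
    PM.derSub_normalForm fun m i h1 h2 h3 h4 => by
      obtain ⟨r, f, hr1, hr2, he, -⟩ := hcl m i h1 h2 h3 h4
      have := PM.mulGen_spec _ _ _ _ _ he
      exact ⟨r, hr1, hr2, by rw [this]; exact mul_one _⟩
  have hQnf : ∀ x ∈ Qp, ∃ m < 2 ^ C.R.n, PM.nf m = x := by
    intro x hx
    suffices ∃ a < 2 ^ C.nb, ∃ y ∈ PM.derSub C.nb, PM.nf a * y = x by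
      obtain ⟨a, ha, y, hy, rfl⟩ := this
      obtain ⟨m, hm1, hm2, rfl⟩ := hderPM y hy
      refine ⟨a ||| m, Nat.or_lt_two_pow (ha.trans_le (Nat.pow_le_pow_right (by norm_num) hnb)) hm2,
        ?_⟩
      rw [PM.nf_low_high C.nb (a ||| m) hnb]
      congr 2
      · apply Nat.eq_of_testBit_eq
        intro k
        rw [Nat.testBit_mod_two_pow, Nat.testBit_or]
        by_cases hk : k < C.nb
        · rw [hm1 k hk]; simp [hk]
        · rw [Nat.testBit_lt_two_pow (ha.trans_le (Nat.pow_le_pow_right (by norm_num)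
            (Nat.le_of_not_lt hk)))]
          simp [hk]
      · rw [Nat.shiftRight_or_distrib, Nat.shiftRight_eq_div_pow a, Nat.div_eq_of_lt ha,
          Nat.zero_or, ← eq_shift_of_above hm1]
    have hx' : x ∈ Submonoid.closure {x | ∃ k, k < C.R.n ∧ PM.G k = x} := by
      rw [← Subgroup.closure_toSubmonoid_of_finite]; exact hx
    clear hx
    induction hx' using Submonoid.closure_induction_right with
    | one => exact ⟨0, Nat.two_pow_pos _, 1, one_mem _, by rw [PM.nf_zero, one_mul]⟩
    | mul_right y hy z hz ih =>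
      obtain ⟨i, hi, rfl⟩ := hz
      obtain ⟨a, ha, y', hy', rfl⟩ := ih
      by_cases hib : i < C.nb
      · have hg' := hg
        simp only [checkGroup, Bool.and_eq_true, List.all_eq_true, List.mem_range] at hg'
        have := hg'.1.1.1 a ha i hib
        split at this
        · next w f he =>
          have hw : PM.nf a * PM.G i = PM.nf w := by
            rw [PM.mulGen_spec _ _ _ _ _ he]; exact mul_one _
          have hn := PM.G_mem_normalizer (d := C.nb) hi hcmPM
          have hconj' : (PM.G i)⁻¹ * y' * PM.G i ∈ PM.derSub C.nb := by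
            have := (Subgroup.mem_normalizer_iff.1 (inv_mem hn) y').1 hy'
            rwa [inv_inv] at this
          refine ⟨w % 2 ^ C.nb, Nat.mod_lt _ (Nat.two_pow_pos _),
            PM.nf ((w >>> C.nb) <<< C.nb) * ((PM.G i)⁻¹ * y' * PM.G i),
            mul_mem (PM.nf_mem_derSub (above_shift _ _)) hconj', ?_⟩
          rw [← mul_assoc, ← PM.nf_low_high _ _ hnb, ← hw]
          group
        · simp at this
      · exact ⟨a, ha, y' * PM.G i, mul_mem hy' (PM.G_mem_derSub (Nat.le_of_not_lt hib) hi),
          by rw [mul_assoc]⟩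
  have hcardQ : Nat.card Qp = 2 ^ C.R.n := by
    rw [← Nat.card_fin (2 ^ C.R.n)]
    refine (Nat.card_eq_of_bijective (fun m : Fin (2 ^ C.R.n) => (⟨PM.nf m, hnfQ m⟩ : Qp))
      ⟨fun a b h => Fin.ext (C.nf_injective ht hg a.2 b.2 (congrArg Subtype.val h)),
        fun ⟨x, hx⟩ => ?_⟩).symm
    obtain ⟨m, hm, rfl⟩ := hQnf x hx
    exact ⟨⟨m, hm⟩, rfl⟩
  have hQK : Qp ≤ (stabGrp [] C.F) := by
    rw [hQp, Subgroup.closure_le]
    rintro _ ⟨k, hk, rfl⟩
    exact (C.gen_valid ht hk).2
  have hidx : Nat.Coprime 2 (Qp.subgroupOf (stabGrp [] C.F)).index := by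
    have h := Subgroup.card_mul_index (Qp.subgroupOf (stabGrp [] C.F))
    rw [Nat.card_congr (Subgroup.subgroupOfEquivOfLe hQK).toEquiv, hcardQ, hK,
      Nat.mul_left_cancel_iff (Nat.two_pow_pos _)] at h
    rw [h]
    exact Nat.coprime_two_left.2 hr
  -- a non-trivial kernel element
  obtain ⟨z, hz, hz1⟩ : ∃ z ∈ σ.ker, z ≠ 1 := by
    by_contra! h
    rw [(Subgroup.eq_bot_iff_forall _).2 h, Subgroup.card_bot] at h2
    omega
  obtain ⟨hzQ, hzc⟩ := Cfsg.Agent.H50.mem_commutator_comap hσ _ hidx z hz
    (by rw [sq]; exact hsq z ((hker z).2 hz))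
  set P0 := (Qp.subgroupOf (stabGrp [] C.F)).comap σ with hP0
  have hmemP0 : ∀ x, x ∈ P0 ↔ ρ x ∈ Qp := fun x => Iff.rfl
  have hzP : z ∈ ⁅P0, P0⁆ := by
    rw [← Subgroup.map_subtype_commutator]
    exact ⟨_, hzc, rfl⟩
  have hgenP0 : Subgroup.closure ({x | ∃ k, k < C.R.n ∧ M.G k = x} ∪ {x | ρ x = 1}) = P0 := by
    refine le_antisymm ?_ fun x hx => ?_
    · rw [Subgroup.closure_le]
      rintro x (⟨k, hk, rfl⟩ | hx)
      · exact (hmemP0 _).2 (by rw [show ρ (M.G k) = PM.G k from hG1 k hk]; exact hGQ k hk)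
      · exact (hmemP0 _).2 (by rw [show ρ x = 1 from hx]; exact one_mem _)
    · obtain ⟨m, hm, he⟩ := hQnf _ ((hmemP0 x).1 hx)
      have h1 : M.nf m ∈ Subgroup.closure ({x | ∃ k, k < C.R.n ∧ M.G k = x} ∪ {x | ρ x = 1}) :=
        list_prod_mem fun y hy => by
          obtain ⟨k, hk, rfl⟩ := List.mem_map.1 hy
          exact Subgroup.subset_closure (.inl ⟨k, (Model.bitsOf_mem.1 hk).1, rfl⟩)
      have h2' : (M.nf m)⁻¹ * x ∈
          Subgroup.closure ({x | ∃ k, k < C.R.n ∧ M.G k = x} ∪ {x | ρ x = 1}) :=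
        Subgroup.subset_closure (.inr (by
          show ρ ((M.nf m)⁻¹ * x) = 1
          rw [map_mul, map_inv, hρnf, he, inv_mul_cancel]))
      simpa using mul_mem h1 h2'
  set Y := M.derSub C.nb with hY
  have hGn : ∀ k < C.R.n, M.G k ∈ Subgroup.normalizer (Y : Set Γ) := fun k hk =>
    M.G_mem_normalizer hk fun a b hab hb _ => hcmM a b hab hb
  have hPn : P0 ≤ Subgroup.normalizer (Y : Set Γ) := by
    rw [← hgenP0, Subgroup.closure_le]
    rintro x (⟨k, hk, rfl⟩ | hx)
    · exact hGn k hk
    · refine Subgroup.mem_normalizer_iff.2 fun y => ?_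
      rw [show x * y * x⁻¹ = y by rw [← hcen x hx y, mul_inv_cancel_right]]
  have hgens : ∀ a ∈ ({x | ∃ k, k < C.R.n ∧ M.G k = x} ∪ {x | ρ x = 1} : Set Γ),
      ∀ b ∈ ({x | ∃ k, k < C.R.n ∧ M.G k = x} ∪ {x | ρ x = 1} : Set Γ), ⁅a, b⁆ ∈ Y := by
    have hzero : ∀ a b : Γ, ρ a = 1 → ⁅a, b⁆ ∈ Y := fun a b h => by
      rw [commutatorElement_eq_one_iff_mul_comm.2 (hcen a h b).symm]; exact one_mem _
    have hlt : ∀ i j, i < j → j < C.R.n → ⁅M.G j, M.G i⁆ ∈ Y := by
      intro i j hij hj
      obtain ⟨hw, hv⟩ := hcmM i j hij hj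
      have e : ⁅M.G j, M.G i⁆
          = (M.G i * M.G j) * M.nf (C.R.cmRule j i).1 * (M.G i * M.G j)⁻¹ := by
        rw [commutatorElement_def, M.cm_rule i j hij hj, hv, mul_one]
        simp only [Model.nf, mul_inv_rev, mul_assoc]
      rw [e]
      exact (Subgroup.mem_normalizer_iff.1 (mul_mem (hGn i (hij.trans hj)) (hGn j hj)) _).1
        (M.nf_mem_derSub hw)
    rintro a (⟨i, hi, rfl⟩ | ha) b (⟨j, hj, rfl⟩ | hb)
    · rcases lt_trichotomy i j with h | rfl | h
      · rw [← commutatorElement_inv]; exact inv_mem (hlt i j h hj)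
      · rw [commutatorElement_eq_one_iff_mul_comm.2 rfl]; exact one_mem _
      · exact hlt j i h hi
    · rw [← commutatorElement_inv]; exact inv_mem (hzero b _ hb)
    · exact hzero a _ ha
    · exact hzero a _ ha
  have hcomY : ⁅P0, P0⁆ ≤ Y := by
    rw [Subgroup.commutator_le]
    intro x hx y hy
    rw [← commutatorElement_inv]
    refine inv_mem (comm_mem_of_closure hPn hgenP0 (g := x) (fun a ha => ?_) y hy)
    rw [← commutatorElement_inv]
    exact inv_mem (comm_mem_of_closure hPn hgenP0 (g := a) (fun b hb => hgens b hb a ha) x hx)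
  obtain ⟨m, -, hmn, hme⟩ := M.derSub_normalForm (fun m i h1 h2' h3 h4 => by
    obtain ⟨w, f, hw1, hw2, he, hfZ⟩ := hcl m i h1 h2' h3 h4
    exact ⟨w, hw1, hw2, by rw [M.mulGen_spec _ _ _ _ _ he, hZ f hfZ, mul_one]⟩) z (hcomY hzP)
  have hm0 : m = 0 := C.nf_injective ht hg hmn (Nat.two_pow_pos _) (by
    rw [show (C.permModel ht).nf 0 = 1 from PM.nf_zero, ← hρnf m, hme, (hker z).2 hz])
  rw [hm0, M.nf_zero] at hme
  exact hz1 hme.symm

end TwoCert

end Cfsg.Agent.H94.Mult
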