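import Cfsg.Agent.H94.Mult.M23Data
import Cfsg.Agent.H94.Mult.M24Data
import Cfsg.Agent.H94.Mult.ThreeData
import Cfsg.Agent.H94.Mult.TwoPartSound
import Cfsg.Agent.Linear.Mult.Killed
import Cfsg.Agent.Golay.Mathieu

/-!
The Schur multipliers of `M23` and `M24` are trivial.
-/

set_option autoImplicit false

namespace Cfsg.Agent.H94.Mult

open Cfsg Cfsg.Agent.Golay Cfsg.Agent.H94.M24

/-- Trivial multiplier from certificates at two and three. -/
theorem hasTrivialMultiplier_of_certs (F : ℕ) (C2 : TwoCert) (C3 : ThreeCert) (h2F : C2.F = F)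
    (h3F : C3.F = F) (ht : C2.checkTables = true) (hg : C2.checkGroup = true)
    (hf : C2.checkForms = true) (hc : C3.check = true) (a b m : ℕ) (ha : C2.R.n = a)
    (hb : C3.els.length = 3 ^ b) (hm2 : Odd m) (hm3 : Nat.Coprime 3 m) (hm : m < 10000)
    (hsq : ∀ l < 100, 2 ≤ l → ¬ l * l ∣ m)
    (hcard : Nat.card ↥(stabGrp [] F) = 2 ^ a * (3 ^ b * m)) :
    Cfsg.HasCyclicSchurMultiplier ↥(stabGrp [] F) 1 := by
  refine Cfsg.Agent.Linear.Mult.hasTrivialMultiplier_of_noStem fun l hl Γ _ _ σ hσ => ?_
  by_cases h2 : l = 2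
  · subst h2 h2F ha
    exact C2.noStem_two σ ht hg hf
      (r := 3 ^ b * m) (Odd.mul (Odd.pow (by decide)) hm2) hcard hσ
  by_cases h3 : l = 3
  · subst h3 h3F
    refine C3.noStem_three σ hc (r := 2 ^ a * m) ?_ ?_ hσ
    · exact Nat.Coprime.mul_right (Nat.Coprime.pow_right a (by norm_num)) hm3
    · rw [hcard, hb]; ring
  refine noStem_cyclic σ hl (fun hd => ?_) hσ
  rw [hcard] at hd
  have c2 : Nat.Coprime (l ^ 2) (2 ^ a) :=
    Nat.Coprime.pow 2 a ((Nat.coprime_primes hl Nat.prime_two).2 h2)
  have c3 : Nat.Coprime (l ^ 2) (3 ^ b) :=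
    Nat.Coprime.pow 2 b ((Nat.coprime_primes hl Nat.prime_three).2 h3)
  have hdm := c3.dvd_of_dvd_mul_left (c2.dvd_of_dvd_mul_left hd)
  have hle := Nat.le_of_dvd hm2.pos hdm
  have hl100 : l < 100 := by nlinarith
  exact hsq l hl100 hl.two_le (by rwa [← sq])

theorem m23_two_tables : certM23.checkTables = true := by decide +kernel
theorem m23_two_group : certM23.checkGroup = true := by decide +kernel
theorem m23_two_forms : certM23.checkForms = true := by decide +kernel
theorem m23_three : threeM23.check = true := by decide +kernel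
theorem m24_two_tables : certM24.checkTables = true := by decide +kernel
theorem m24_two_group : certM24.checkGroup = true := by decide +kernel
theorem m24_two_forms : certM24.checkForms = true := by decide +kernel
theorem m24_three : threeM24.check = true := by decide +kernel

/-- The multiplier of `M24` is trivial. -/
theorem hasTrivialMultiplier_M24 : Cfsg.HasCyclicSchurMultiplier ↥Cfsg.M24 1 := by
  have h : stabGrp [] 0 = Cfsg.M24 := stabGrp_nil_zero
  rw [← h]
  exact hasTrivialMultiplier_of_certs 0 certM24 threeM24 rfl rfl m24_two_tables m24_two_group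
    m24_two_forms m24_three 10 3 8855 rfl (by decide +kernel) ⟨4427, rfl⟩ (by norm_num) (by norm_num)
    (by decide +kernel) (by rw [h, Cfsg.Agent.Golay.card_M24]; norm_num)

/-- The multiplier of `M23` is trivial. -/
theorem hasTrivialMultiplier_M23 : Cfsg.HasCyclicSchurMultiplier ↥Cfsg.Spor.M23 1 := by
  have h : Cfsg.Spor.M23 = stabGrp [] 8388608 := spor_M23_eq
  rw [h]
  exact hasTrivialMultiplier_of_certs 8388608 certM23 threeM23 rfl rfl m23_two_tables m23_two_group
    m23_two_forms m23_three 7 2 8855 rfl (by decide +kernel) ⟨4427, rfl⟩ (by norm_num) (by norm_num)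
    (by decide +kernel) (by rw [← h, Cfsg.Agent.Golay.card_spor_M23]; norm_num)

end Cfsg.Agent.H94.Mult
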