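import Mathlib

/-!
Collection in a central extension of a polycyclically presented 2-group, carrying the unknown
central tails as linear forms.
-/

set_option autoImplicit false

namespace Cfsg.Agent.H94.Mult

/-- Rules: squares `g i ^ 2 = nf w · tail` and `g j · g i = g i · g j · nf w · tail` for `i < j`. -/
structure Rules where
  /-- Number of generators. -/
  n : ℕ
  /-- Square rules. -/
  sq : List (ℕ × ℕ)
  /-- Commutator rules, indexed by `j` then `i`. -/
  cm : List (List (ℕ × ℕ))

namespace Rules

variable (R : Rules)

/-- Square rule of a generator. -/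
def sqRule (i : ℕ) : ℕ × ℕ := R.sq.getD i (0, 0)

/-- Commutator rule of two generators. -/
def cmRule (j i : ℕ) : ℕ × ℕ := (R.cm.getD j []).getD i (0, 0)

end Rules

/-- Highest set bit below the bound. -/
def topBit : ℕ → ℕ → ℕ
  | 0, _ => 0
  | k + 1, m => if m.testBit k then k else topBit k m

lemma topBit_above : ∀ {n m k : ℕ}, topBit n m < k → k < n → m.testBit k = false
  | 0, _, k, _, h => absurd h (Nat.not_lt_zero k)
  | n + 1, m, k, hlt, hk => by
    rw [topBit] at hlt
    split at hlt
    · next h => omega
    · next h =>
      rcases Nat.lt_succ_iff_lt_or_eq.1 hk with hk | rfl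
      · exact topBit_above hlt hk
      · simpa using h

/-- Fold a multiplier by generators over the generators in a mask. -/
def mulList (mg : ℕ → ℕ → Option (ℕ × ℕ)) : List ℕ → ℕ → Option (ℕ × ℕ)
  | [], m => some (m, 0)
  | k :: ks, m =>
    match mg m k with
    | none => none
    | some (r, f) =>
      match mulList mg ks r with
      | none => none
      | some (r', f') => some (r', f ^^^ f')

/-- The generators in a mask, increasing. -/
def bitsOf (n w : ℕ) : List ℕ := (List.range n).filter fun k => w.testBit k

/-- Multiply a normal form by a generator. -/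
def mulGen (R : Rules) : ℕ → ℕ → ℕ → Option (ℕ × ℕ)
  | 0, _, _ => none
  | fuel + 1, m, i =>
    if R.n ≤ i then none
    else if m >>> (i + 1) == 0 then
      if m.testBit i then
        match mulList (mulGen R fuel) (bitsOf R.n (R.sqRule i).1) (m ^^^ 2 ^ i) with
        | none => none
        | some (r, f) => some (r, f ^^^ (R.sqRule i).2)
      else some (m ||| 2 ^ i, 0)
    else
      if i < topBit R.n m && m.testBit (topBit R.n m) then
        match mulGen R fuel (m ^^^ 2 ^ topBit R.n m) i with
        | none => none
        | some (r, f) =>
          match mulGen R fuel r (topBit R.n m) with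
          | none => none
          | some (r', f') =>
            match mulList (mulGen R fuel) (bitsOf R.n (R.cmRule (topBit R.n m) i).1) r' with
            | none => none
            | some (r'', f'') =>
              some (r'', f ^^^ f' ^^^ f'' ^^^ (R.cmRule (topBit R.n m) i).2)
      else none

/-- An interpretation of the rules in a group. -/
structure Model (R : Rules) (E : Type*) [Group E] where
  /-- The generators. -/
  G : ℕ → E
  /-- The central tail of a form. -/
  V : ℕ → E
  V_zero : V 0 = 1
  V_xor : ∀ a b, V (a ^^^ b) = V a * V b
  V_central : ∀ a x, x * V a = V a * x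
  sq_rule : ∀ i < R.n, G i * G i = ((bitsOf R.n (R.sqRule i).1).map G).prod * V (R.sqRule i).2
  cm_rule : ∀ i j, i < j → j < R.n →
    G j * G i = G i * G j * ((bitsOf R.n (R.cmRule j i).1).map G).prod * V (R.cmRule j i).2

namespace Model

variable {R : Rules} {E : Type*} [Group E] (M : Model R E)

/-- The value of a normal form. -/
def nf (m : ℕ) : E := ((bitsOf R.n m).map M.G).prod

lemma nf_zero : M.nf 0 = 1 := by
  simp [nf, bitsOf]

lemma bitsOf_split {n m j : ℕ} (hj : j < n) (hjm : m.testBit j = true)
    (habove : ∀ k, j < k → k < n → m.testBit k = false) :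
    bitsOf n m = bitsOf n (m ^^^ 2 ^ j) ++ [j] := by
  induction n with
  | zero => omega
  | succ n ih =>
    simp only [bitsOf, List.range_succ, List.filter_append, List.filter_cons, List.filter_nil]
    rcases Nat.lt_succ_iff_lt_or_eq.1 hj with hlt | rfl
    · have h1 : m.testBit n = false := habove n hlt (Nat.lt_succ_self n)
      have h2 : (m ^^^ 2 ^ j).testBit n = false := by
        rw [Nat.testBit_xor, h1, Nat.testBit_two_pow]; simp [hlt.ne]
      rw [h1, h2]
      simpa [bitsOf] using ih hlt fun k hk hk' => habove k hk (Nat.lt_succ_of_lt hk')
    · have h2 : (m ^^^ 2 ^ j).testBit j = false := by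
        rw [Nat.testBit_xor, hjm, Nat.testBit_two_pow]; simp
      rw [hjm, h2]
      have h3 : ((List.range j).filter fun k => (m ^^^ 2 ^ j).testBit k)
          = (List.range j).filter fun k => m.testBit k := by
        refine List.filter_congr fun k hk => ?_
        rw [Nat.testBit_xor, Nat.testBit_two_pow]
        simp [(List.mem_range.1 hk).ne']
      simp only [if_true, Bool.false_eq_true, if_false, List.append_nil, h3]

lemma nf_split {m j : ℕ} (hj : j < R.n) (hjm : m.testBit j = true)
    (habove : ∀ k, j < k → k < R.n → m.testBit k = false) :
    M.nf m = M.nf (m ^^^ 2 ^ j) * M.G j := by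
  simp [nf, bitsOf_split hj hjm habove]

lemma mulList_spec {mg : ℕ → ℕ → Option (ℕ × ℕ)}
    (hmg : ∀ m i r f, mg m i = some (r, f) → M.nf m * M.G i = M.nf r * M.V f) :
    ∀ (ks : List ℕ) (m r f : ℕ), mulList mg ks m = some (r, f) →
      M.nf m * (ks.map M.G).prod = M.nf r * M.V f
  | [], m, r, f, h => by
    simp only [mulList, Option.some.injEq, Prod.mk.injEq] at h
    obtain ⟨rfl, rfl⟩ := h
    simp [M.V_zero]
  | k :: ks, m, r, f, h => by
    simp only [mulList] at h
    split at h
    · simp at h
    · next r₁ f₁ h₁ =>
      split at h
      · simp at h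
      · next r₂ f₂ h₂ =>
        simp only [Option.some.injEq, Prod.mk.injEq] at h
        obtain ⟨rfl, rfl⟩ := h
        rw [List.map_cons, List.prod_cons, ← mul_assoc, hmg _ _ _ _ h₁, mul_assoc,
          ← M.V_central f₁ (List.prod _), ← mul_assoc, mulList_spec hmg ks _ _ _ h₂, mul_assoc,
          ← M.V_xor, Nat.xor_comm]

theorem mulGen_spec : ∀ (fuel m i r f : ℕ), mulGen R fuel m i = some (r, f) →
    M.nf m * M.G i = M.nf r * M.V f
  | 0, _, _, _, _, h => by simp [mulGen] at h
  | fuel + 1, m, i, r, f, h => by
    simp only [mulGen] at h
    split at h
    · simp at h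
    next hi =>
    have hin : i < R.n := Nat.lt_of_not_le hi
    split at h
    · next hsh =>
      have habove : ∀ k, i < k → m.testBit k = false := by
        intro k hk
        have h0 : (m >>> (i + 1)).testBit (k - (i + 1)) = false := by
          rw [eq_of_beq hsh]; simp
        rwa [Nat.testBit_shiftRight, show i + 1 + (k - (i + 1)) = k by omega] at h0
      split at h
      · next hmi =>
        split at h
        · simp at h
        · next r₁ f₁ h₁ =>
          simp only [Option.some.injEq, Prod.mk.injEq] at h
          obtain ⟨rfl, rfl⟩ := h
          rw [M.nf_split hin hmi (fun k hk _ => habove k hk), mul_assoc, M.sq_rule i hin,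
            ← mul_assoc, M.mulList_spec (fun a b c d e => mulGen_spec fuel a b c d e) _ _ _ _ h₁,
            mul_assoc, ← M.V_xor]
      · next hmi =>
        simp only [Option.some.injEq, Prod.mk.injEq] at h
        obtain ⟨rfl, rfl⟩ := h
        have hb : (m ||| 2 ^ i).testBit i = true := by simp [Nat.testBit_or]
        have hab : ∀ k, i < k → k < R.n → (m ||| 2 ^ i).testBit k = false := fun k hk _ => by
          rw [Nat.testBit_or, habove k hk, Nat.testBit_two_pow]; simp [hk.ne]
        rw [M.V_zero, mul_one, M.nf_split hin hb hab]
        congr 2
        apply Nat.eq_of_testBit_eq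
        intro k
        rw [Nat.testBit_xor, Nat.testBit_or, Nat.testBit_two_pow]
        by_cases hk : i = k
        · subst hk
          simp [Bool.eq_false_iff.2 hmi]
        · simp [hk]
    · split at h
      · next hj =>
        rw [Bool.and_eq_true, decide_eq_true_eq] at hj
        obtain ⟨hij, hjm⟩ := hj
        have hjn : topBit R.n m < R.n := by
          by_contra hge
          have : ∀ n, 0 < n → topBit n m < n := by
            intro n
            induction n with
            | zero => omega
            | succ n ih =>
              intro _
              rw [topBit]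
              split
              · omega
              · rcases Nat.eq_zero_or_pos n with rfl | hn
                · simp [topBit]
                · exact Nat.lt_succ_of_lt (ih hn)
          exact hge (this R.n (by omega))
        split at h
        · simp at h
        · next r₁ f₁ h₁ =>
          split at h
          · simp at h
          · next r₂ f₂ h₂ =>
            split at h
            · simp at h
            · next r₃ f₃ h₃ =>
              simp only [Option.some.injEq, Prod.mk.injEq] at h
              obtain ⟨rfl, rfl⟩ := h
              have e1 := mulGen_spec fuel _ _ _ _ h₁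
              have e2 := mulGen_spec fuel _ _ _ _ h₂
              have e3 := M.mulList_spec (fun a b c d e => mulGen_spec fuel a b c d e) _ _ _ _ h₃
              set j := topBit R.n m
              set W := ((bitsOf R.n (R.cmRule j i).1).map M.G).prod
              calc M.nf m * M.G i
                  = M.nf (m ^^^ 2 ^ j) * (M.G j * M.G i) := by
                    rw [← mul_assoc, ← M.nf_split hjn hjm fun k hk hk' => topBit_above hk hk']
                _ = M.nf (m ^^^ 2 ^ j) * (M.G i * M.G j * W * M.V (R.cmRule j i).2) := by
                    rw [M.cm_rule i j hij hjn]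
                _ = M.nf r₁ * M.V f₁ * M.G j * W * M.V (R.cmRule j i).2 := by
                    rw [← e1]; simp only [mul_assoc]
                _ = M.nf r₁ * M.G j * (M.V f₁ * W) * M.V (R.cmRule j i).2 := by
                    rw [mul_assoc (M.nf r₁), ← M.V_central f₁ (M.G j)]
                    simp only [mul_assoc]
                _ = M.nf r₂ * M.V f₂ * (W * M.V f₁) * M.V (R.cmRule j i).2 := by
                    rw [e2, ← M.V_central f₁ W]
                _ = M.nf r₂ * W * (M.V f₂ * M.V f₁) * M.V (R.cmRule j i).2 := by
                    rw [mul_assoc (M.nf r₂), ← mul_assoc (M.V f₂), ← M.V_central f₂ W]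
                    simp only [mul_assoc]
                _ = M.nf r₃ * (M.V f₃ * (M.V f₂ * M.V f₁) * M.V (R.cmRule j i).2) := by
                    rw [e3]; simp only [mul_assoc]
                _ = M.nf r₃ * M.V (f₁ ^^^ f₂ ^^^ f₃ ^^^ (R.cmRule j i).2) := by
                    rw [← M.V_xor f₂ f₁, ← M.V_xor, ← M.V_xor,
                      show f₃ ^^^ (f₂ ^^^ f₁) = f₁ ^^^ f₂ ^^^ f₃ by
                        rw [Nat.xor_comm f₃, Nat.xor_comm f₂ f₁]]
      · simp at h

end Model

end Cfsg.Agent.H94.Mult
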