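import Cfsg.Agent.H94.Mult.TwoPart

/-!
Generated certificate: no stem extension of order two of the group M23.
-/

set_option autoImplicit false

namespace Cfsg.Agent.H94.Mult

/-- Normal forms ordered by code. -/
def orderM23 : List ℕ :=
  [0, 1, 8, 9, 2, 3, 10, 11, 96, 97, 104, 105, 34, 35, 42, 43, 98, 99, 106, 107, 32, 33, 40, 41, 4, 69, 12, 77, 22, 87, 94, 31, 112, 17, 56, 89, 50, 19, 122, 91, 100, 37, 108, 45, 54, 119, 126, 63, 116, 85, 60, 29, 38, 71, 46, 79, 16, 113, 88, 57, 18, 51, 90, 123, 86, 23, 30, 95, 68, 5, 76, 13, 102, 7, 110, 15, 52, 21, 124, 93, 20, 53, 92, 125, 6, 103, 14, 111, 66, 67, 74, 75, 64, 65, 72, 73, 82, 115, 26, 59, 80, 49, 24, 121, 114, 83, 58, 27, 48, 81, 120, 25, 118, 55, 62, 127, 36, 101, 44, 109, 70, 39, 78, 47, 84, 117, 28, 61]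

/-- The certificate. -/
def certM23 : TwoCert where
  R :=
    { n := 7
      sq := [(0, 1), (0, 64), (0, 1024), (0, 16384), (0, 262144), (0, 2097152), (0, 8388608)]
      cm := [
    [],
    [(8, 0)],
    [(64, 2), (16, 0)],
    [(0, 4), (0, 128), (32, 0)],
    [(96, 8), (0, 256), (0, 2048), (64, 32768)],
    [(0, 16), (64, 0), (0, 4096), (0, 65536), (0, 524288)],
    [(0, 32), (0, 512), (0, 8192), (0, 131072), (0, 1048576), (0, 4194304)]] }
  F := 8388608
  gens := [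
    984314827592033236074561707266279456,
    972715533645191023441926575607612480,
    984633160269174131446836246381449445,
    984433695522452451222587287024404512,
    984402435294351724133464464188098762,
    984312441599065015478656696357847554,
    984517796198086030077715058251629648]
  nb := 3
  defs := [(1, 1, 0), (1, 2, 1), (1, 3, 2), (1, 5, 1)]
  vars := [(0, 0, 0), (1, 2, 0), (1, 3, 0), (1, 4, 0), (1, 5, 0), (1, 6, 0), (0, 1, 0), (1, 3, 1), (1, 4, 1), (1, 6, 1), (0, 2, 0), (1, 4, 2), (1, 5, 2), (1, 6, 2), (0, 3, 0), (1, 4, 3), (1, 5, 3), (1, 6, 3), (0, 4, 0), (1, 5, 4), (1, 6, 4), (0, 5, 0), (1, 6, 5), (0, 6, 0)]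
  tri := [(1, 0, 0), (1, 1, 0), (2, 0, 0), (2, 1, 0), (2, 1, 1), (2, 2, 0), (2, 2, 1), (3, 2, 0), (3, 2, 1), (3, 2, 2), (3, 3, 2), (4, 0, 0), (4, 1, 0), (4, 2, 0), (4, 3, 0), (4, 3, 1), (4, 3, 2), (4, 3, 3)]
  sqEqs := [
    (2, 33, 980512659056570050593427107885488725),
    (4, 48, 980512659056570050593427107885488725),
    (8, 65, 972833872709422660047258591196097703)]
  oddEqs := [
    (2, 88, [(971300601043812948510710435149269194, 7), (967327268362747623955654694630721568, 3)]),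
    (18, 122, [(963804286028308796588124642090853792, 7), (956855180797177387255072017566312726, 7)])]
  cmEqs := [
    (56, 109, 101, 124, 972833872709422660047258591196097703)]
  Z := 16777215
  proofs := [
    (0, [1, 5, 8, 9, 10, 13, 14, 15, 17, 20, 22]),
    (1, [2, 12, 13, 15, 23]),
    (2, [0, 1, 2, 5, 8, 9, 10, 13, 14, 15, 17, 22]),
    (3, [3, 5, 7, 8, 9, 10, 11, 13, 14, 15, 17]),
    (4, [10, 11, 14, 17]),
    (5, [5, 8, 12, 14, 15, 16, 17]),
    (6, [1, 7, 9, 12, 13, 14, 16, 18, 20, 22]),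
    (7, [2, 5, 8, 9, 10, 13, 14, 15, 17, 22]),
    (8, [2, 5, 8, 9, 10, 13, 14, 17, 21, 22]),
    (9, [15]),
    (10, [2, 4, 5, 9, 12, 13, 14, 15, 17, 19, 21, 22]),
    (11, [2, 4, 5, 6, 8, 9, 10, 13, 14, 17, 21, 22]),
    (12, [5, 7, 8, 9, 11, 12, 14, 15, 16]),
    (13, [2, 8, 12, 14, 15, 16, 17]),
    (14, [1, 2, 5, 8, 9, 10, 13, 14, 15, 17, 22]),
    (15, [5, 8, 16]),
    (16, [5, 7, 8, 10, 11, 12, 14, 15, 16]),
    (17, [2, 5, 8, 12, 14, 15, 16]),
    (18, [2, 4, 5, 8, 9, 10, 13, 14, 17, 21, 22]),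
    (19, [5, 7, 10, 11, 14, 16]),
    (20, [8, 9, 10, 12, 13, 15, 16]),
    (21, [5, 7, 8, 11, 12, 14, 15, 16]),
    (22, [2, 5, 7, 8, 10, 11, 12, 15, 16, 17]),
    (23, [2, 5, 8, 12, 14, 15, 16, 17])]
  order := orderM23

end Cfsg.Agent.H94.Mult
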