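import Cfsg.Agent.H94.Mult.Collector
import Cfsg.Agent.H94.M24.Class
import Cfsg.Agent.Linear.Mult.Killed

/-!
A checkable certificate that a stabiliser in the group of the code has no stem extension by a
kernel of order two.
-/

set_option autoImplicit false

namespace Cfsg.Agent.H94.Mult

open Cfsg Cfsg.Agent.Golay Cfsg.Agent.H94.M24
open scoped commutatorElement

/-- The certificate. -/
structure TwoCert where
  /-- The rules. -/
  R : Rules
  /-- The fixed points of the group. -/
  F : ℕ
  /-- Tables of the generators of a Sylow subgroup. -/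
  gens : List ℕ
  /-- Number of generators not defined from earlier ones. -/
  nb : ℕ
  /-- Defining rules of the later generators. -/
  defs : List (ℕ × ℕ × ℕ)
  /-- The rule of each unknown. -/
  vars : List (ℕ × ℕ × ℕ)
  /-- Associativity equations. -/
  tri : List (ℕ × ℕ × ℕ)
  /-- Conjugate involutions. -/
  sqEqs : List (ℕ × ℕ × ℕ)
  /-- Commuting pairs with a factorisation into odd-order elements. -/
  oddEqs : List (ℕ × ℕ × List (ℕ × ℕ))
  /-- Conjugate commuting pairs. -/
  cmEqs : List (ℕ × ℕ × ℕ × ℕ × ℕ)
  /-- Unknowns proved to vanish. -/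
  Z : ℕ
  /-- For each of them, the equations adding up to it. -/
  proofs : List (ℕ × List ℕ)
  /-- The normal forms, ordered by code. -/
  order : List ℕ

namespace TwoCert

variable (C : TwoCert)

/-- Table of a generator. -/
def gen (k : ℕ) : ℕ := C.gens.getD k idTblVal

/-- Table of a normal form. -/
def elT (m : ℕ) : ℕ := (bitsOf C.R.n m).foldl (fun acc k => tblMul acc (C.gen k)) idTblVal

/-- Image of a position under a normal form. -/
def imgT (m b : ℕ) : ℕ := (bitsOf C.R.n m).foldr (fun k x => app (C.gen k) x) b

/-- Code of a normal form: images of the base positions. -/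
def code (m : ℕ) : ℕ := [23, 0, 1, 2, 3, 5, 4].foldl (fun c b => c * 32 + C.imgT m b) 0

/-- Bound on the recursion depth of collection. -/
def fuel : ℕ := 200

/-- Product of two normal forms. -/
def mul2 (u v : ℕ) : Option (ℕ × ℕ) := mulList (mulGen C.R fuel) (bitsOf C.R.n v) u

/-- Commutation form of two normal forms, if their products have one normal form. -/
def cmForm (u v : ℕ) : Option ℕ :=
  match C.mul2 u v, C.mul2 v u with
  | some (r, f), some (r', g) => if r == r' then some (f ^^^ g) else none
  | _, _ => none

/-- An associativity equation. -/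
def triEq : ℕ × ℕ × ℕ → Option ℕ
  | (k, j, i) =>
    match mulList (mulGen C.R fuel) [k, j, i] 0, mulList (mulGen C.R fuel) [j, i] 0 with
    | some (r, f), some (p, g) =>
      match mulList (mulGen C.R fuel) (k :: bitsOf C.R.n p) 0 with
      | some (r', g') => if r == r' then some (f ^^^ (g ^^^ g')) else none
      | none => none
    | _, _ => none

/-- An equation from conjugate involutions. -/
def sqEq : ℕ × ℕ × ℕ → Option ℕ
  | (u, w, h) =>
    match C.mul2 u u, C.mul2 w w with
    | some (r, f), some (r', g) =>
      if (r == 0) && (r' == 0) && inStab [] C.F h && conjB h (C.elT u) (C.elT w) then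
        some (f ^^^ g) else none
    | _, _ => none

/-- An equation from a commuting pair with an odd-order factorisation. -/
def oddEq : ℕ × ℕ × List (ℕ × ℕ) → Option ℕ
  | (u, v, fs) =>
    if (fs.all fun a => inStab [] C.F a.1 && commB a.1 (C.elT u) && (a.2 % 2 == 1) &&
          tblEq (powT a.2 a.1) idTblVal) &&
        tblEq (fs.foldl (fun acc a => tblMul acc a.1) idTblVal) (C.elT v) then
      C.cmForm u v else none

/-- An equation from conjugate commuting pairs. -/
def cmEq : ℕ × ℕ × ℕ × ℕ × ℕ → Option ℕ
  | (u, v, a, b, h) =>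
    match C.cmForm u v, C.cmForm a b with
    | some f, some g =>
      if inStab [] C.F h && conjB h (C.elT u) (C.elT a) && conjB h (C.elT v) (C.elT b) then
        some (f ^^^ g) else none
    | _, _ => none

/-- All equations. -/
def eqs : List (Option ℕ) :=
  C.tri.map C.triEq ++ C.sqEqs.map C.sqEq ++ C.oddEqs.map C.oddEq ++ C.cmEqs.map C.cmEq

/-- The forms of the equations. -/
def eqForms : List ℕ := C.eqs.map fun o => o.getD 0

/-- A rule's tail form. -/
def formOf : ℕ × ℕ × ℕ → ℕ
  | (0, j, _) => (C.R.sqRule j).2
  | (_, j, i) => (C.R.cmRule j i).2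

/-- A rule's word. -/
def wordOf : ℕ × ℕ × ℕ → ℕ
  | (0, j, _) => (C.R.sqRule j).1
  | (_, j, i) => (C.R.cmRule j i).1

/-- A rule has either a defining or an unknown tail. -/
def ruleOK (r : ℕ × ℕ × ℕ) : Bool :=
  (C.formOf r == 0 && C.defs.contains r) ||
    (List.range C.vars.length).any fun v => C.formOf r == 2 ^ v && C.vars.getD v (0, 0, 0) == r

/-- All rules. -/
def allRules : List (ℕ × ℕ × ℕ) :=
  (List.range C.R.n).flatMap fun j =>
    (0, j, 0) :: (List.range j).map fun i => (1, j, i)

/-- The table identities. -/
def checkTables : Bool :=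
  C.gens.length == C.R.n && decide (C.nb ≤ C.R.n) && (C.gens.all fun t => inStab [] C.F t) &&
    (C.allRules.all fun r => C.ruleOK r && decide (C.wordOf r < 2 ^ C.R.n)) &&
    ((List.range C.R.n).all fun j =>
      tblEq (tblMul (C.gen j) (C.gen j)) (C.elT (C.R.sqRule j).1) &&
      (List.range j).all fun i => tblEq (tblMul (C.gen j) (C.gen i))
        (tblMul (tblMul (C.gen i) (C.gen j)) (C.elT (C.R.cmRule j i).1))) &&
    ((List.range C.defs.length).all fun d =>
      match C.defs.getD d (0, 0, 0) with
      | (t, j, i) => (C.wordOf (t, j, i) == 2 ^ (C.nb + d)) && decide (j < C.nb + d) &&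
          ((t == 0 && i == 0) || (t == 1 && decide (i < j)))) &&
    (C.defs.length + C.nb == C.R.n)

/-- The normal forms are closed and distinct. -/
def checkGroup : Bool :=
  ((List.range (2 ^ C.nb)).all fun m => (List.range C.nb).all fun i =>
    match mulGen C.R fuel m i with
    | some (r, _) => decide (r < 2 ^ C.R.n)
    | none => false) &&
  (C.order.length == 2 ^ C.R.n) && (C.order.all fun m => decide (m < 2 ^ C.R.n)) &&
  isIncr (C.order.map C.code)

/-- Mask of the defined generators. -/
def inDer (w : ℕ) : Bool := (w >>> C.nb) <<< C.nb == w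

/-- The equations hold and suffice. -/
def checkForms : Bool :=
  (C.eqs.all Option.isSome) &&
  ((List.range C.vars.length).all fun v => !C.Z.testBit v ||
    C.proofs.any fun p => p.1 == v && p.2.foldl (fun acc e => acc ^^^ C.eqForms.getD e 0) 0 == 2 ^ v) &&
  ((List.range C.R.n).all fun j => (List.range j).all fun i =>
    C.inDer (C.R.cmRule j i).1 && ((C.R.cmRule j i).2 &&& C.Z == (C.R.cmRule j i).2)) &&
  ((List.range (2 ^ (C.R.n - C.nb))).all fun m => (List.range (C.R.n - C.nb)).all fun i =>
    match mulGen C.R fuel (m <<< C.nb) (C.nb + i) with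
    | some (r, f) => C.inDer r && decide (r < 2 ^ C.R.n) && (f &&& C.Z == f)
    | none => false)

end TwoCert

end Cfsg.Agent.H94.Mult
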